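import Cfsg.Agent.Lib.Fusion.RankThree.Pearl.Basic

/-!
When the commutator of the two generators lies in the second layer, the subgroup is abelian.
-/

set_option autoImplicit false
set_option linter.unusedSectionVars false
set_option linter.style.haveILetI false

namespace Cfsg.Agent.Fusion.RankThree.Pearl

open Cfsg Cfsg.Agent.Fusion Cfsg.Agent.Fusion.Basic Cfsg.Agent.Fusion.Saturation
open Cfsg.Agent.Fusion.RankThree Cfsg.Agent.Fusion.RankThree.Normal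
open Subgroup (zpowers closure mem_zpowers mem_zpowers_iff subset_closure closure_le)

variable {G : Type*} [Group G] [Finite G] {p : ℕ} [hp : Fact p.Prime] {E L : Subgroup G} {a b x : G}

theorem Ctx.abelian (hC : Ctx p E L a b x) (hc : cm a b ∈ layer p E) :
    ∀ u ∈ E, ∀ v ∈ E, Commute u v := by
  haveI := hC.nE; haveI := hC.phi_n; haveI := com_normal (E := E)
  set E' := com E with hE'
  set M := nx p E E' with hM
  haveI : M.Normal := nx_normal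
  by_contra hcon
  have hE'E : E' ≤ E := (com_le_phi (p := p)).trans phi_le
  have hnot : ¬ E' ≤ M := fun h => hcon fun u hu v hv => cm_eq_one_iff.1 <| by
    have h1 := cm_mem_com hu hv
    rw [← hE', absorb hC.grp h, Subgroup.mem_bot] at h1
    exact h1
  have hMinv : Inv E M := inv_nx inv_com hE'E
  have hB : Bil E E E' M := ⟨le_rfl, hE'E, fun d hd v hv => cm_mem_com hd hv,
    fun z hz v hv => cm_mem_nx hz hv⟩
  have hpow : ∀ z ∈ E', z ^ p ∈ M := fun z hz => pow_mem_nx hz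
  have hphi : ∀ u ∈ E, ∀ w ∈ phi p E, cm u w ∈ M := fun u hu w hw => hB.phi_right hpow hu hw
  set π := QuotientGroup.mk' M with hπ
  set c := cm a b with hcd
  have hgen : ∀ g ∈ E', ∃ i : ℤ, π g = π c ^ i := by
    have hle : E' ≤ (zpowers (π c)).comap π := by
      rw [hE', com, closure_le]
      rintro _ ⟨u, hu, v, hv, rfl⟩
      obtain ⟨i, hi⟩ := hC.gen_cm hB hpow hu hv
      exact ⟨i, hi.symm⟩
    intro g hg
    obtain ⟨i, hi⟩ := mem_zpowers_iff.1 (hle hg)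
    exact ⟨i, hi.symm⟩
  have hcM : c ∉ M := fun h => hnot fun g hg => by
    obtain ⟨i, hi⟩ := hgen g hg
    rw [mk_eq_one.2 h, one_zpow] at hi
    exact mk_eq_one.1 hi
  have hcE' : c ∈ E' := cm_mem_com hC.haE hC.hb
  have hcp : π c ^ p = 1 := by rw [← map_pow]; exact mk_eq_one.2 (hpow c hcE')
  have hpc : ∀ {n : ℕ} {g : G}, g ∈ E' → π g ^ p ^ (n + 1) = 1 := fun {n g} hg => by
    rw [pow_succ', pow_mul, ← map_pow π g p, mk_eq_one.2 (hpow g hg), one_pow]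
  -- the power maps
  have hq : ∀ e : ℕ, ∀ u ∈ E, ∀ v ∈ E, π ((u * v) ^ p ^ (e + 1)) = π (u ^ p ^ (e + 1)) * π (v ^ p ^ (e + 1)) := by
    intro e u hu v hv
    have h1 : π ((u * v) ^ p) = π (u ^ p) * π (v ^ p) := mk_mul_pow hC.odd
      (hB.h12 _ (cm_mem_com hv hu) u hu) (hB.h12 _ (cm_mem_com hv hu) v hv) (hpow _ (cm_mem_com hv hu))
    have h2 : Commute (π (u ^ p)) (π (v ^ p)) :=
      mk_cm_eq_one_iff.2 (hphi _ (pow_mem hu p) _ (pow_mem_phi hv))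
    rw [pow_succ' p e, pow_mul, pow_mul, pow_mul, map_pow, h1, h2.mul_pow]
    simp only [map_pow]
  let q : ℕ → (E →* G ⧸ M) := fun e =>
    MonoidHom.mk' (fun v => π ((v : G) ^ p ^ (e + 1))) fun u v => hq e u u.2 v v.2
  have hlift : ∀ e : ℕ, ∀ z ∈ phi p E, ∃ u ∈ E, π (z ^ p ^ (e + 1)) = π (u ^ p ^ (e + 2)) := by
    intro e
    have hle : phi p E ≤ (((q (e + 1)).range).comap (q e)).map E.subtype := by
      refine phi_le_iff.2 ⟨fun v hv => ⟨(⟨v, hv⟩ : E) ^ p, ⟨⟨v, hv⟩, ?_⟩, rfl⟩, fun u hu v hv =>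
        ⟨cm (⟨u, hu⟩ : E) ⟨v, hv⟩, ?_, map_cm E.subtype _ _⟩⟩
      · show π (v ^ p ^ (e + 2)) = π ((v ^ p) ^ p ^ (e + 1))
        rw [← pow_mul, ← pow_succ']
      · refine Subgroup.mem_comap.2 ?_
        show π (((cm (⟨u, hu⟩ : E) ⟨v, hv⟩ : E) : G) ^ p ^ (e + 1)) ∈ _
        rw [map_pow, show ((cm (⟨u, hu⟩ : E) ⟨v, hv⟩ : E) : G) = cm u v from map_cm E.subtype _ _,
          hpc (cm_mem_com hu hv)]
        exact one_mem _
    intro z hz
    obtain ⟨z', ⟨u, hu⟩, rfl⟩ := hle hz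
    exact ⟨u, u.2, hu.symm⟩
  -- the commutator is a power
  have h2 : ∃ u ∈ E, π c = π (u ^ p ^ 2) := by
    have hle : layer p E ≤ ((q 1).range).comap π := by
      refine layer_le_iff.2 ⟨fun z hz v hv => ?_, fun z hz => ?_⟩
      · rw [Subgroup.mem_comap, mk_eq_one.2 (by rw [cm_swap]; exact inv_mem (hphi v hv z hz) : cm z v ∈ M)]
        exact one_mem _
      · obtain ⟨u, hu, he⟩ := hlift 0 z hz
        rw [zero_add, pow_one] at he
        exact ⟨⟨u, hu⟩, he.symm⟩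
    obtain ⟨u, hu⟩ := hle hc
    exact ⟨u, u.2, hu.symm⟩
  obtain ⟨e, he, hne⟩ : ∃ e : ℕ, (∃ u ∈ E, π c = π (u ^ p ^ (e + 1))) ∧
      ¬ ∃ u ∈ E, π c = π (u ^ p ^ (e + 2)) := by
    by_contra hno
    have hno' : ∀ e : ℕ, (∃ u ∈ E, π c = π (u ^ p ^ (e + 1))) → ∃ u ∈ E, π c = π (u ^ p ^ (e + 2)) :=
      fun e h => by_contra fun h' => hno ⟨e, h, h'⟩
    have hall : ∀ e : ℕ, ∃ u ∈ E, π c = π (u ^ p ^ (e + 2)) := by
      intro e
      induction e with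
      | zero => exact h2
      | succ e ih => exact hno' (e + 1) ih
    obtain ⟨n, hn⟩ := IsPGroup.iff_card.1 hC.grp
    obtain ⟨u, -, hu⟩ := hall n
    rw [pow_add, pow_mul, ← hn, pow_card_eq_one', one_pow, map_one] at hu
    exact hcM (mk_eq_one.1 hu)
  obtain ⟨w, hwE, hw⟩ := he
  have hwphi : w ∉ phi p E := fun h => by
    obtain ⟨u, hu, he'⟩ := hlift e w h
    exact hne ⟨u, hu, hw.trans he'⟩
  -- the preimage of the commutator line
  set U : Subgroup G := ((Subgroup.map π E' ⊔ (q (e + 1)).range).comap (q e)).map E.subtype with hUd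
  have hUinv : Inv E U := by
    intro α v hv
    obtain ⟨v', hv', hvv⟩ := hv
    obtain rfl : v' = v := Subtype.ext hvv
    refine ⟨α v', ?_, rfl⟩
    have hcomm : ∀ g ∈ E', ∀ u ∈ E, Commute (π g) (π u) := fun g hg u hu =>
      mk_cm_eq_one_iff.2 (hB.h12 g hg u hu)
    haveI : (Subgroup.map π E').Normal := com_normal.map _ (QuotientGroup.mk'_surjective M)
    obtain ⟨_, ⟨g, hg, rfl⟩, _, ⟨u, rfl⟩, hgu⟩ := Subgroup.mem_sup_of_normal_left.1 hv'
    have hM1 : (g * (u : G) ^ p ^ (e + 2))⁻¹ * (v' : G) ^ p ^ (e + 1) ∈ M :=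
      (QuotientGroup.eq (s := M)).1 (by
        show π (g * (u : G) ^ p ^ (e + 2)) = π ((v' : G) ^ p ^ (e + 1))
        rw [map_mul]; exact hgu)
    have hgE : g ∈ E := hE'E hg
    have h3 := Inv.af hMinv α (mul_mem (inv_mem (mul_mem hgE (pow_mem u.2 _))) (pow_mem v'.2 _)) hM1
    rw [af_mul α (inv_mem (mul_mem hgE (pow_mem u.2 _))) (pow_mem v'.2 _),
      af_inv α (mul_mem hgE (pow_mem u.2 _)), af_mul α hgE (pow_mem u.2 _), af_pow α u.2, af_pow α v'.2,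
      autFun_apply, autFun_apply] at h3
    refine Subgroup.mem_comap.2 ?_
    show π (((α v' : E) : G) ^ p ^ (e + 1)) ∈ _
    have h4 : π (autFun α g * ((α u : E) : G) ^ p ^ (e + 2)) = π (((α v' : E) : G) ^ p ^ (e + 1)) :=
      (QuotientGroup.eq (s := M)).2 h3
    rw [← h4, map_mul]
    exact mul_mem (Subgroup.mem_sup_left (Subgroup.mem_map_of_mem _ (Inv.af inv_com α hgE hg)))
      (Subgroup.mem_sup_right ⟨α u, rfl⟩)
  have hUphi : phi p E ≤ U := fun z hz => by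
    refine ⟨⟨z, phi_le hz⟩, Subgroup.mem_comap.2 ?_, rfl⟩
    obtain ⟨u, hu, he'⟩ := hlift e z hz
    exact Subgroup.mem_sup_right ⟨⟨u, hu⟩, he'.symm⟩
  have hUE : U = E := by
    refine (hC.irr U hUinv hUphi (Subgroup.map_subtype_le _)).resolve_left fun h => hwphi (h.le ?_)
    exact ⟨⟨w, hwE⟩, Subgroup.mem_comap.2 (Subgroup.mem_sup_left ⟨c, hcE', hw⟩), rfl⟩
  -- the kernel
  set K : Subgroup G := ((q (e + 1)).range.comap (q e)).map E.subtype with hKd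
  have hKinv : Inv E K := by
    intro α v hv
    obtain ⟨v', hv', hvv⟩ := hv
    obtain rfl : v' = v := Subtype.ext hvv
    refine ⟨α v', ?_, rfl⟩
    obtain ⟨u, hu⟩ := hv'
    have h3 := Inv.af hMinv α (mul_mem (inv_mem (pow_mem u.2 _)) (pow_mem v'.2 _))
      ((QuotientGroup.eq (s := M)).1 hu)
    rw [af_mul α (inv_mem (pow_mem u.2 _)) (pow_mem v'.2 _), af_inv α (pow_mem u.2 _), af_pow α u.2,
      af_pow α v'.2, autFun_apply, autFun_apply] at h3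
    exact ⟨α u, (QuotientGroup.eq (s := M)).2 h3⟩
  have hKphi : K = phi p E := by
    refine hC.eq_phi hKinv (fun z hz => ?_) (Subgroup.map_subtype_le _) fun h => ?_
    · obtain ⟨u, hu, he'⟩ := hlift e z hz
      exact ⟨⟨z, phi_le hz⟩, ⟨⟨u, hu⟩, he'.symm⟩, rfl⟩
    · obtain ⟨w', ⟨u, hu⟩, hw'⟩ := h.ge hwE
      refine hne ⟨u, u.2, hw.trans ?_⟩
      rw [← hw']; exact hu.symm
  -- the two generators
  have hdec : ∀ v ∈ E, ∃ i : ℤ, ∃ u ∈ E, π (v ^ p ^ (e + 1)) = π c ^ i * π (u ^ p ^ (e + 2)) := by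
    intro v hv
    obtain ⟨v', hv', rfl⟩ := hUE.ge hv
    haveI : (Subgroup.map π E').Normal := com_normal.map _ (QuotientGroup.mk'_surjective M)
    obtain ⟨_, ⟨g, hg, rfl⟩, _, ⟨u, rfl⟩, hgu⟩ := Subgroup.mem_sup_of_normal_left.1 hv'
    obtain ⟨i, hi⟩ := hgen g hg
    exact ⟨i, u, u.2, by rw [← hi]; exact hgu.symm⟩
  have hnotK : ∀ v ∈ E, ∀ u ∈ E, π (v ^ p ^ (e + 1)) = π (u ^ p ^ (e + 2)) → v ∈ phi p E :=
    fun v hv u hu h => hKphi.le ⟨⟨v, hv⟩, ⟨⟨u, hu⟩, h.symm⟩, rfl⟩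
  obtain ⟨i, u, hu, hia⟩ := hdec a hC.haE
  obtain ⟨j, u', hu', hjb⟩ := hdec b hC.hb
  have hcomb : b ^ i * a ^ (-j) ∈ phi p E := by
    refine hnotK _ (mul_mem (zpow_mem hC.hb i) (zpow_mem hC.haE (-j))) (u' ^ i * u ^ (-j))
      (mul_mem (zpow_mem hu' i) (zpow_mem hu (-j))) ?_
    have e1 : (q e) ((⟨b, hC.hb⟩ : E) ^ i * (⟨a, hC.haE⟩ : E) ^ (-j)) =
        (q (e + 1)) ((⟨u', hu'⟩ : E) ^ i * (⟨u, hu⟩ : E) ^ (-j)) := by
      rw [map_mul, map_mul, map_zpow, map_zpow, map_zpow, map_zpow]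
      show π (b ^ p ^ (e + 1)) ^ i * π (a ^ p ^ (e + 1)) ^ (-j) = π (u' ^ p ^ (e + 2)) ^ i * π (u ^ p ^ (e + 2)) ^ (-j)
      have hc1 : ∀ u ∈ E, Commute (π c) (π (u ^ p ^ (e + 2))) := fun u hu =>
        mk_cm_eq_one_iff.2 (hB.h12 c hcE' _ (pow_mem hu _))
      rw [hjb, hia, ((hc1 u' hu').zpow_left j).mul_zpow, ((hc1 u hu).zpow_left i).mul_zpow, ← zpow_mul,
        ← zpow_mul, mul_assoc, ← mul_assoc (π (u' ^ p ^ (e + 2)) ^ i),
        ← (((hc1 u' hu').zpow_left (i * -j)).zpow_right i).eq, mul_assoc, ← mul_assoc, ← zpow_add,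
        show j * i + i * -j = 0 by ring, zpow_zero, one_mul]
    exact e1
  obtain ⟨hi, -⟩ := hC.indep hcomb
  obtain ⟨k, rfl⟩ := hi
  refine hC.ha' (hnotK a hC.haE u hu ?_)
  rw [hia, zpow_mul, zpow_natCast, hcp, one_zpow, one_mul]

end Cfsg.Agent.Fusion.RankThree.Pearl
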