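import Cfsg.Agent.Lib.Fusion.RankThree.Normal.Basic
import Cfsg.Agent.Lib.PGroups.Normal

/-!
Lower exponent-`p` layers of a two-generated subgroup of index `p` in a `p`-group.
-/

set_option autoImplicit false
set_option linter.unusedSectionVars false
set_option linter.style.haveILetI false

namespace Cfsg.Agent.Fusion.RankThree.Pearl

open Cfsg Cfsg.Agent.Fusion Cfsg.Agent.Fusion.Basic Cfsg.Agent.Fusion.Saturation
open Cfsg.Agent.Fusion.RankThree Cfsg.Agent.Fusion.RankThree.Normal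
open Subgroup (zpowers closure mem_zpowers mem_zpowers_iff subset_closure closure_le)

variable {G : Type*} [Group G] [Finite G] {p : ℕ}

/-- `[N, E] N ^ p`. -/
def nx (p : ℕ) (E N : Subgroup G) : Subgroup G :=
  closure (Set.image2 cm (N : Set G) (E : Set G) ∪ (fun z => z ^ p) '' (N : Set G))

variable {E N : Subgroup G}

theorem cm_mem_nx {z v : G} (hz : z ∈ N) (hv : v ∈ E) : cm z v ∈ nx p E N :=
  subset_closure (Or.inl ⟨z, hz, v, hv, rfl⟩)

theorem cm_mem_nx' {z v : G} (hz : z ∈ N) (hv : v ∈ E) : cm v z ∈ nx p E N := by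
  rw [cm_swap]; exact inv_mem (cm_mem_nx hz hv)

theorem pow_mem_nx {z : G} (hz : z ∈ N) : z ^ p ∈ nx p E N := subset_closure (Or.inr ⟨z, hz, rfl⟩)

theorem nx_le_iff {M : Subgroup G} :
    nx p E N ≤ M ↔ (∀ z ∈ N, ∀ v ∈ E, cm z v ∈ M) ∧ ∀ z ∈ N, z ^ p ∈ M := by
  rw [nx, closure_le, Set.union_subset_iff, Set.image_subset_iff, Set.image2_subset_iff]
  rfl

theorem layer_eq : layer p E = nx p E (phi p E) := rfl

theorem nx_le [N.Normal] : nx p E N ≤ N :=
  nx_le_iff.2 ⟨fun _ hz v _ => cm_mem hz v, fun _ hz => pow_mem hz p⟩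

theorem closure_normal {s : Set G} (h : ∀ g : G, ∀ v ∈ s, g * v * g⁻¹ ∈ closure s) :
    (closure s).Normal := by
  refine ⟨fun v hv g => ?_⟩
  have hle : closure s ≤ (closure s).comap (MulAut.conj g).toMonoidHom := by
    rw [closure_le]; exact fun w hw => h g w hw
  exact hle hv

theorem conj_cm (g u v : G) : g * cm u v * g⁻¹ = cm (g * u * g⁻¹) (g * v * g⁻¹) :=
  map_cm (MulAut.conj g) u v

theorem nx_normal [hE : E.Normal] [hN : N.Normal] : (nx p E N).Normal := by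
  refine closure_normal fun g v hv => ?_
  rcases hv with ⟨z, hz, w, hw, rfl⟩ | ⟨z, hz, rfl⟩
  · rw [conj_cm]; exact cm_mem_nx (hN.conj_mem z hz g) (hE.conj_mem w hw g)
  · show g * z ^ p * g⁻¹ ∈ _
    rw [← conj_pow]; exact pow_mem_nx (hN.conj_mem z hz g)

/-- The subgroup generated by the commutators. -/
def com (E : Subgroup G) : Subgroup G := closure (Set.image2 cm (E : Set G) (E : Set G))

theorem cm_mem_com {u v : G} (hu : u ∈ E) (hv : v ∈ E) : cm u v ∈ com E :=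
  subset_closure ⟨u, hu, v, hv, rfl⟩

theorem com_normal [hE : E.Normal] : (com E).Normal := by
  refine closure_normal fun g v hv => ?_
  obtain ⟨z, hz, w, hw, rfl⟩ := hv
  rw [conj_cm]; exact cm_mem_com (hE.conj_mem z hz g) (hE.conj_mem w hw g)

theorem com_le_phi : com E ≤ phi p E := by
  rw [com, closure_le]; rintro _ ⟨u, hu, v, hv, rfl⟩; exact cm_mem_phi hu hv

theorem inv_closure' {s : Set G} (hs : ∀ v ∈ s, v ∈ E)
    (h : ∀ α : MulAut E, ∀ v ∈ s, autFun α v ∈ closure s) : Inv E (closure s) :=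
  inv_closure hs fun α v hv => by rw [← autFun_apply]; exact h α v hv

theorem Inv.af {U : Subgroup G} (h : Inv E U) (α : MulAut E) {v : G} (hv : v ∈ E) (hvU : v ∈ U) :
    autFun α v ∈ U := by
  rw [autFun_of_mem α hv]; exact h α ⟨v, hv⟩ hvU

theorem inv_com : Inv E (com E) := by
  refine inv_closure' ?_ fun α _ hv => ?_
  · rintro _ ⟨u, hu, v, hv, rfl⟩; exact phi_le (com_le_phi (p := 0) (cm_mem_com hu hv))
  · obtain ⟨u, hu, v, hv, rfl⟩ := hv
    rw [af_cm α hu hv]; exact cm_mem_com (autFun_mem α hu) (autFun_mem α hv)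

theorem inv_nx (hN : Inv E N) (hNE : N ≤ E) : Inv E (nx p E N) := by
  refine inv_closure' ?_ fun α _ hv => ?_
  · rintro _ (⟨z, hz, v, hv, rfl⟩ | ⟨z, hz, rfl⟩)
    exacts [phi_le (p := p) (cm_mem_phi (hNE hz) hv), pow_mem (hNE hz) p]
  · rcases hv with ⟨z, hz, v, hv, rfl⟩ | ⟨z, hz, rfl⟩
    · rw [af_cm α (hNE hz) hv]; exact cm_mem_nx (Inv.af hN α (hNE hz) hz) (autFun_mem α hv)
    · show autFun α (z ^ p) ∈ _
      rw [af_pow α (hNE hz)]; exact pow_mem_nx (Inv.af hN α (hNE hz) hz)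

/-! ### Commutators modulo a normal subgroup -/

section Mod

variable {N2 : Subgroup G} [N2.Normal]

local notation "π" => QuotientGroup.mk' N2

theorem mk_eq_one {v : G} : π v = 1 ↔ v ∈ N2 := QuotientGroup.eq_one_iff v

theorem mk_conj_of_cm {z v : G} (h : cm z v ∈ N2) : π (v⁻¹ * z * v) = π z := by
  rw [conj_eq_mul_cm, map_mul, mk_eq_one.2 h, mul_one]

theorem mk_cm_right {d u v : G} (h : cm (cm d u) v ∈ N2) (h' : cm (cm d u) (cm d v) ∈ N2) :
    π (cm d (u * v)) = π (cm d u) * π (cm d v) := by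
  rw [cm_mul_right, map_mul, mk_conj_of_cm h]
  exact ((mk_cm_eq_one_iff.2 h').eq).symm

theorem mk_cm_left {d z v : G} (h : cm (cm d v) z ∈ N2) :
    π (cm (d * z) v) = π (cm d v) * π (cm z v) := by
  rw [cm_mul_left, map_mul, mk_conj_of_cm h]

theorem mk_mul_pow [hp : Fact p.Prime] (hp2 : p ≠ 2) {u v : G} (h1 : cm (cm v u) u ∈ N2)
    (h2 : cm (cm v u) v ∈ N2) (h3 : cm v u ^ p ∈ N2) : π ((u * v) ^ p) = π (u ^ p) * π (v ^ p) := by
  rw [map_pow, map_mul, map_pow, map_pow]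
  refine mul_pow_class_two_eq hp.out hp2 ?_ ?_ ?_
  · rw [← map_cm]; exact mk_cm_eq_one_iff.2 h1
  · rw [← map_cm]; exact mk_cm_eq_one_iff.2 h2
  · rw [← map_cm, ← map_pow]; exact mk_eq_one.2 h3

end Mod

/-- Two consecutive central steps. -/
structure Bil (E N0 N1 N2 : Subgroup G) : Prop where
  le0 : N0 ≤ E
  le1 : N1 ≤ E
  h01 : ∀ d ∈ N0, ∀ v ∈ E, cm d v ∈ N1
  h12 : ∀ z ∈ N1, ∀ v ∈ E, cm z v ∈ N2

section Bil

variable {N0 N1 N2 : Subgroup G} [N2.Normal] (hB : Bil E N0 N1 N2)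
include hB

theorem Bil.right {d u v : G} (hd : d ∈ N0) (hu : u ∈ E) (hv : v ∈ E) :
    QuotientGroup.mk' N2 (cm d (u * v)) =
      QuotientGroup.mk' N2 (cm d u) * QuotientGroup.mk' N2 (cm d v) :=
  mk_cm_right (hB.h12 _ (hB.h01 d hd u hu) v hv) (hB.h12 _ (hB.h01 d hd u hu) _ (hB.le1 (hB.h01 d hd v hv)))

theorem Bil.left {d z v : G} (hd : d ∈ N0) (hz : z ∈ N0) (hv : v ∈ E) :
    QuotientGroup.mk' N2 (cm (d * z) v) =
      QuotientGroup.mk' N2 (cm d v) * QuotientGroup.mk' N2 (cm z v) :=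
  mk_cm_left (hB.h12 _ (hB.h01 d hd v hv) z (hB.le0 hz))

/-- The commutator with a fixed first entry. -/
def Bil.homR {d : G} (hd : d ∈ N0) : E →* G ⧸ N2 :=
  MonoidHom.mk' (fun v => QuotientGroup.mk' N2 (cm d v)) fun u v => hB.right hd u.2 v.2

/-- The commutator with a fixed second entry. -/
def Bil.homL {v : G} (hv : v ∈ E) : N0 →* G ⧸ N2 :=
  MonoidHom.mk' (fun d => QuotientGroup.mk' N2 (cm (d : G) v)) fun d z => hB.left d.2 z.2 hv

theorem Bil.zpow_right {d v : G} (hd : d ∈ N0) (hv : v ∈ E) (n : ℤ) :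
    QuotientGroup.mk' N2 (cm d (v ^ n)) = QuotientGroup.mk' N2 (cm d v) ^ n :=
  map_zpow (hB.homR hd) ⟨v, hv⟩ n

theorem Bil.zpow_left {d v : G} (hd : d ∈ N0) (hv : v ∈ E) (n : ℤ) :
    QuotientGroup.mk' N2 (cm (d ^ n) v) = QuotientGroup.mk' N2 (cm d v) ^ n :=
  map_zpow (hB.homL hv) ⟨d, hd⟩ n

/-- The Frattini subgroup acts trivially on two steps of exponent `p`. -/
theorem Bil.phi_right (hpow : ∀ z ∈ N1, z ^ p ∈ N2) {d w : G} (hd : d ∈ N0) (hw : w ∈ phi p E) :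
    cm d w ∈ N2 := by
  have hle : phi p E ≤ (hB.homR hd).ker.map E.subtype := phi_le_iff.2 ⟨fun v hv => ?_, fun u hu v hv => ?_⟩
  · obtain ⟨e, he, rfl⟩ := hle hw
    exact mk_eq_one.1 he
  · refine ⟨(⟨v, hv⟩ : E) ^ p, ?_, rfl⟩
    rw [SetLike.mem_coe, MonoidHom.mem_ker, map_pow]
    show QuotientGroup.mk' N2 (cm d v) ^ p = 1
    rw [← map_pow]; exact mk_eq_one.2 (hpow _ (hB.h01 d hd v hv))
  · refine ⟨cm (⟨u, hu⟩ : E) ⟨v, hv⟩, ?_, map_cm E.subtype _ _⟩
    rw [SetLike.mem_coe, MonoidHom.mem_ker, map_cm, cm_eq_one_iff]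
    exact mk_cm_eq_one_iff.2 (hB.h12 _ (hB.h01 d hd u hu) _ (hB.le1 (hB.h01 d hd v hv)))

end Bil

/-! ### The setting -/

/-- `E` has index `p`, a Frattini quotient of order `p ^ 2` on which `G` acts with fixed line `L`, and no
characteristic subgroup strictly above the Frattini subgroup. -/
structure Ctx (p : ℕ) (E L : Subgroup G) (a b x : G) : Prop where
  grp : IsPGroup p G
  odd : p ≠ 2
  nE : E.Normal
  nL : L.Normal
  phiL : phi p E ≤ L
  LE : L ≤ E
  idxL : L.relIndex E = p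
  idxPhi : (phi p E).relIndex L = p
  ha : a ∈ L
  ha' : a ∉ phi p E
  hb : b ∈ E
  hb' : b ∉ L
  hx : x ∉ E
  bx : cm b x ∉ phi p E
  idx : E.index = p
  irr : ∀ U : Subgroup G, Inv E U → phi p E ≤ U → U ≤ E → U = phi p E ∨ U = E

section Ctx

variable [hp : Fact p.Prime]

/-- A normal subgroup contained in its next layer is trivial. -/
theorem absorb (hG : IsPGroup p G) [hN : N.Normal] (h : N ≤ nx p E N) : N = ⊥ := by
  by_contra hne
  obtain ⟨k, hk⟩ := IsPGroup.iff_card.1 (hG.to_subgroup N)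
  rcases k with _ | k
  · exact hne (Subgroup.card_eq_one.1 (by rw [hk, pow_zero]))
  obtain ⟨M, hMn, hMN, hMc⟩ := PGroups.Normal.exists_normal_le_card hG N k
    (by rw [hk]; exact Nat.pow_le_pow_right hp.out.pos (Nat.le_succ k))
  have hrel : M.relIndex N = p := by
    have h1 := Subgroup.relIndex_mul_relIndex (⊥ : Subgroup G) M N bot_le hMN
    rw [Subgroup.relIndex_bot_left, Subgroup.relIndex_bot_left, hMc, hk, pow_succ] at h1
    exact Nat.eq_of_mul_eq_mul_left (pow_pos hp.out.pos k) h1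
  have hNM : N ≤ M := h.trans (nx_le_iff.2 ⟨fun z hz v _ => cm_mem_of_relIndex hG hrel hz v,
    fun z hz => pow_mem_of_relIndex hG hrel hz⟩)
  rw [Subgroup.relIndex_eq_one.2 hNM] at hrel
  exact hp.out.one_lt.ne hrel

/-- A solution of `g ^ i = 1` for an element of order dividing `p`. -/
theorem eq_one_of_zpow {Q : Type*} [Group Q] {g : Q} (hg : g ^ p = 1) {i : ℤ} (hi : ¬ (p : ℤ) ∣ i)
    (h : g ^ i = 1) : g = 1 := by
  by_contra hne
  have h1 := orderOf_dvd_iff_zpow_eq_one.2 h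
  rw [orderOf_eq_prime hg hne] at h1
  exact hi h1

variable {L : Subgroup G} {a b x : G} (hC : Ctx p E L a b x)
include hC

theorem Ctx.phi_n : (phi p E).Normal := by haveI := hC.nE; exact phi_normal

theorem Ctx.haE : a ∈ E := hC.LE hC.ha

theorem Ctx.dvd_of_mem {i : ℤ} (h : a ^ i ∈ phi p E) : (p : ℤ) ∣ i := by
  haveI := hC.phi_n
  by_contra hi
  refine hC.ha' (mk_eq_one.1 (eq_one_of_zpow (Q := G ⧸ phi p E) ?_ hi ?_))
  · rw [← map_pow]; exact mk_eq_one.2 (pow_mem_phi hC.haE)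
  · rw [← map_zpow]; exact mk_eq_one.2 h

theorem Ctx.cm_L {d : G} (hd : d ∈ L) (y : G) : cm d y ∈ phi p E := by
  haveI := hC.phi_n; haveI := hC.nL
  exact cm_mem_of_relIndex hC.grp hC.idxPhi hd y

theorem Ctx.cm_E {v : G} (hv : v ∈ E) (y : G) : cm v y ∈ L := by
  haveI := hC.nE; haveI := hC.nL
  exact cm_mem_of_relIndex hC.grp hC.idxL hv y

theorem Ctx.decL {v : G} (hv : v ∈ L) : ∃ i : ℤ, ∃ w ∈ phi p E, v = a ^ i * w := by
  haveI := hC.phi_n
  obtain ⟨i, hi⟩ := exists_zpow_of_relIndex hC.grp hC.idxPhi hC.ha hC.ha' hv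
  rw [← map_zpow] at hi
  exact ⟨i, (a ^ i)⁻¹ * v, (QuotientGroup.eq (s := phi p E)).1 hi.symm, (mul_inv_cancel_left _ _).symm⟩

theorem Ctx.decE {v : G} (hv : v ∈ E) : ∃ j i : ℤ, ∃ w ∈ phi p E, v = b ^ j * a ^ i * w := by
  haveI := hC.nL
  obtain ⟨j, hj⟩ := exists_zpow_of_relIndex hC.grp hC.idxL hC.hb hC.hb' hv
  rw [← map_zpow] at hj
  obtain ⟨i, w, hw, he⟩ := hC.decL ((QuotientGroup.eq (s := L)).1 hj.symm)
  exact ⟨j, i, w, hw, by rw [mul_assoc, ← he, mul_inv_cancel_left]⟩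

/-- Independence modulo the Frattini subgroup. -/
theorem Ctx.indep {j i : ℤ} (h : b ^ j * a ^ i ∈ phi p E) : (p : ℤ) ∣ j ∧ (p : ℤ) ∣ i := by
  haveI := hC.phi_n; haveI := hC.nL
  have hj : (p : ℤ) ∣ j := by
    by_contra hj
    refine hC.hb' (mk_eq_one.1 (eq_one_of_zpow (Q := G ⧸ L) ?_ hj ?_))
    · rw [← map_pow]; exact mk_eq_one.2 (hC.phiL (pow_mem_phi hC.hb))
    · rw [← map_zpow]
      have h1 := L.mul_mem (hC.phiL h) (L.inv_mem (L.zpow_mem hC.ha i))
      rw [mul_inv_cancel_right] at h1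
      exact mk_eq_one.2 h1
  refine ⟨hj, hC.dvd_of_mem ?_⟩
  obtain ⟨k, rfl⟩ := hj
  have h1 : b ^ ((p : ℤ) * k) ∈ phi p E := by
    rw [zpow_mul, zpow_natCast]; exact zpow_mem (pow_mem_phi hC.hb) k
  exact (Subgroup.mul_mem_cancel_left _ h1).1 h

/-- A subgroup of `E` containing `a`, `b` and the Frattini subgroup is `E`. -/
theorem Ctx.mem_of {K : Subgroup G} (ha : a ∈ K) (hb : b ∈ K) (hK : phi p E ≤ K) {v : G} (hv : v ∈ E) :
    v ∈ K := by
  obtain ⟨j, i, w, hw, rfl⟩ := hC.decE hv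
  exact mul_mem (mul_mem (zpow_mem hb j) (zpow_mem ha i)) (hK hw)

/-- The Frattini quotient is irreducible. -/
theorem Ctx.eq_phi {U : Subgroup G} (hU : Inv E U) (hle : phi p E ≤ U) (hUE : U ≤ E) (hne : U ≠ E) :
    U = phi p E := (hC.irr U hU hle hUE).resolve_right hne

/-- Commutators of `E` are powers of `cm a b` modulo a suitable subgroup. -/
theorem Ctx.gen_cm {N1 N2 : Subgroup G} [N2.Normal] (hB : Bil E E N1 N2) (hpow : ∀ z ∈ N1, z ^ p ∈ N2)
    {u v : G} (hu : u ∈ E) (hv : v ∈ E) :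
    ∃ i : ℤ, QuotientGroup.mk' N2 (cm u v) = QuotientGroup.mk' N2 (cm a b) ^ i := by
  set Z := zpowers (QuotientGroup.mk' N2 (cm a b)) with hZ
  have key : ∀ d ∈ E, QuotientGroup.mk' N2 (cm d a) ∈ Z → QuotientGroup.mk' N2 (cm d b) ∈ Z →
      ∀ w ∈ E, QuotientGroup.mk' N2 (cm d w) ∈ Z := by
    intro d hd h1 h2 w hw
    have hle : phi p E ≤ (Z.comap (hB.homR hd)).map E.subtype := fun z hz =>
      ⟨⟨z, phi_le hz⟩, by
        show QuotientGroup.mk' N2 (cm d z) ∈ Z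
        rw [mk_eq_one.2 (hB.phi_right hpow hd hz)]; exact one_mem _, rfl⟩
    obtain ⟨e, he, rfl⟩ := hC.mem_of (K := (Z.comap (hB.homR hd)).map E.subtype) ⟨⟨a, hC.haE⟩, h1, rfl⟩
      ⟨⟨b, hC.hb⟩, h2, rfl⟩ hle hw
    exact he
  have hab : QuotientGroup.mk' N2 (cm a b) ∈ Z := mem_zpowers _
  have hba : QuotientGroup.mk' N2 (cm b a) ∈ Z := by rw [cm_swap, map_inv]; exact inv_mem hab
  have h1 : ∀ d : G, QuotientGroup.mk' N2 (cm d d) ∈ Z := fun d => by
    rw [cm_self, map_one]; exact one_mem _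
  have hua : QuotientGroup.mk' N2 (cm u a) ∈ Z := by
    rw [cm_swap, map_inv]; exact inv_mem (key a hC.haE (h1 a) hab u hu)
  have hub : QuotientGroup.mk' N2 (cm u b) ∈ Z := by
    rw [cm_swap, map_inv]; exact inv_mem (key b hC.hb hba (h1 b) u hu)
  obtain ⟨i, hi⟩ := mem_zpowers_iff.1 (key u hu hua hub v hv)
  exact ⟨i, hi.symm⟩

/-- No automorphism of `G` moves `E` when `E` is a centralizer of an invariant section. -/
theorem Ctx.false_of_section (γ : G ≃* G) (hγ : E.map γ.toMonoidHom ≠ E) (N M : Subgroup G) [M.Normal]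
    (hN : ∀ n ∈ N, γ n ∈ N) (hM : ∀ m ∈ M, γ m ∈ M) (hE : ∀ n ∈ N, ∀ v ∈ E, cm n v ∈ M)
    {n : G} (hn : n ∈ N) (hnx : cm n x ∉ M) : False := by
  set C : Subgroup G :=
    { carrier := {y | ∀ z ∈ N, Commute (QuotientGroup.mk' M z) (QuotientGroup.mk' M y)}
      one_mem' := fun z _ => by rw [map_one]; exact Commute.one_right _
      mul_mem' := fun h1 h2 z hz => by rw [map_mul]; exact (h1 z hz).mul_right (h2 z hz)
      inv_mem' := fun h1 z hz => by rw [map_inv]; exact (h1 z hz).inv_right } with hCd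
  have hEC : E ≤ C := fun v hv z hz => mk_cm_eq_one_iff.2 (hE z hz v hv)
  have hCE : C = E := by
    refine le_antisymm (fun y hy => ?_) hEC
    by_contra hyE
    haveI := hC.nE
    have hidx : E.relIndex ⊤ = p := by rw [Subgroup.relIndex_top_right, hC.idx]
    obtain ⟨i, hi⟩ := exists_zpow_of_relIndex hC.grp hidx (Subgroup.mem_top y) hyE (Subgroup.mem_top x)
    rw [← map_zpow] at hi
    have h1 : x ∈ C := by
      have h2 := C.mul_mem (C.zpow_mem hy i) (hEC ((QuotientGroup.eq (s := E)).1 hi.symm))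
      rwa [mul_inv_cancel_left] at h2
    exact hnx (mk_cm_eq_one_iff.1 (h1 n hn))
  have hMi : ∀ m, γ m ∈ M → m ∈ M := by
    have hMeq : M.map γ.toMonoidHom = M := Subgroup.eq_of_le_of_card_ge
      (by rintro _ ⟨m, hm, rfl⟩; exact hM m hm) (Subgroup.card_map_of_injective γ.injective).ge
    intro m hm
    obtain ⟨m', hm', he⟩ := hMeq.ge hm
    rwa [← γ.injective he]
  have hNeq : N.map γ.toMonoidHom = N := Subgroup.eq_of_le_of_card_ge
    (by rintro _ ⟨m, hm, rfl⟩; exact hN m hm) (Subgroup.card_map_of_injective γ.injective).ge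
  refine hγ (Subgroup.eq_of_le_of_card_ge ?_ (Subgroup.card_map_of_injective γ.injective).ge)
  rintro _ ⟨v, hv, rfl⟩
  refine hCE.le fun z hz => ?_
  obtain ⟨z', hz', rfl⟩ := hNeq.ge hz
  refine mk_cm_eq_one_iff.2 ?_
  show cm (γ z') (γ v) ∈ M
  rw [← map_cm]
  exact hM _ (hE z' hz' v hv)

end Ctx

end Cfsg.Agent.Fusion.RankThree.Pearl
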