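import Cfsg.Agent.Lib.Fusion.RankThree.Pearl.Basic

/-!
Trivial power map: the group has order `p ^ 3`, or it is the centralizer of an invariant subgroup.
-/

set_option autoImplicit false
set_option linter.unusedSectionVars false
set_option linter.style.haveILetI false

namespace Cfsg.Agent.Fusion.RankThree.Pearl

open Cfsg Cfsg.Agent.Fusion Cfsg.Agent.Fusion.Basic Cfsg.Agent.Fusion.Saturation
open Cfsg.Agent.Fusion.RankThree Cfsg.Agent.Fusion.RankThree.Normal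
open Subgroup (zpowers closure mem_zpowers mem_zpowers_iff subset_closure closure_le)

variable {G : Type*} [Group G] [Finite G] {p : ℕ} [hp : Fact p.Prime] {E L : Subgroup G} {a b x : G}

set_option maxHeartbeats 1600000 in
theorem Ctx.cubic (hC : Ctx p E L a b x) (hsr : Cfsg.SectionalPRankLE p 3 G) (hc : cm a b ∉ layer p E)
    (hP : ∀ v ∈ E, v ^ p ∈ layer p E) (γ : G ≃* G) (hγ : E.map γ.toMonoidHom ≠ E)
    (hγL : L.map γ.toMonoidHom = L) : Nat.card E = p ^ 3 := by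
  haveI := hC.nE; haveI := hC.nL; haveI := hC.phi_n
  haveI hψn : (layer p E).Normal := layer_normal
  set ψ := layer p E with hψd
  set φ := phi p E with hφd
  set c := cm a b with hcd
  have hcφ : c ∈ φ := cm_mem_phi hC.haE hC.hb
  have hψφ : ψ ≤ φ := layer_le
  have hφE : φ ≤ E := phi_le
  have hψE : ψ ≤ E := hψφ.trans hφE
  -- the shape of the Frattini subgroup
  have hbil : Bil E E φ ψ :=
    ⟨le_rfl, hφE, fun _ hd _ hv => cm_mem_phi hd hv, fun _ hz _ hv => cm_mem_layer hz hv⟩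
  have hφdec : ∀ z ∈ φ, ∃ i : ℤ, ∃ w ∈ ψ, z = c ^ i * w := by
    have hle : φ ≤ (zpowers (QuotientGroup.mk' ψ c)).comap (QuotientGroup.mk' ψ) := by
      refine phi_le_iff.2 ⟨fun v hv => ?_, fun u hu v hv => ?_⟩
      · rw [Subgroup.mem_comap, mk_eq_one.2 (hP v hv)]; exact one_mem _
      · obtain ⟨i, hi⟩ := hC.gen_cm hbil (fun z hz => pow_mem_layer hz) hu hv
        exact ⟨i, hi.symm⟩
    intro z hz
    obtain ⟨i, hi⟩ := mem_zpowers_iff.1 (hle hz)
    rw [← map_zpow] at hi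
    exact ⟨i, (c ^ i)⁻¹ * z, (QuotientGroup.eq (s := ψ)).1 hi, (mul_inv_cancel_left _ _).symm⟩
  have hidx : ψ.relIndex φ = p := by
    refine relIndex_eq_prime hC.grp ?_ hcφ hc
    rw [relIndex_eq_card_map]
    have hle : φ.map (QuotientGroup.mk' ψ) ≤ zpowers (QuotientGroup.mk' ψ c) := by
      rintro _ ⟨z, hz, rfl⟩
      obtain ⟨i, w, hw, rfl⟩ := hφdec z hz
      rw [map_mul, mk_eq_one.2 hw, mul_one, map_zpow]
      exact zpow_mem (mem_zpowers _) i
    refine (Subgroup.card_le_of_le hle).trans ?_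
    rw [Nat.card_zpowers]
    exact orderOf_le_of_pow_eq_one hp.out.pos (by rw [← map_pow]; exact mk_eq_one.2 (pow_mem_layer hcφ))
  have hφG : ∀ z ∈ φ, ∀ y, cm z y ∈ ψ := fun z hz y => cm_mem_of_relIndex hC.grp hidx hz y
  have hmapL : ∀ d ∈ L, γ d ∈ L := fun d hd => hγL.le ⟨d, hd, rfl⟩
  have hmapφ : ∀ z ∈ φ, γ z ∈ φ := by
    have hle : ψ ≤ φ.comap γ.toMonoidHom := by
      refine layer_le_iff.2 ⟨fun z hz v _ => ?_, fun z hz => ?_⟩
      · show γ (cm z v) ∈ φ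
        rw [map_cm]; exact hC.cm_L (hmapL z (hC.phiL hz)) _
      · show γ (z ^ p) ∈ φ
        rw [map_pow]; exact pow_mem_phi (hC.LE (hmapL z (hC.phiL hz)))
    intro z hz
    obtain ⟨i, w, hw, rfl⟩ := hφdec z hz
    rw [map_mul, map_zpow, hcd, map_cm]
    exact mul_mem (zpow_mem (hC.cm_L (hmapL a hC.ha) _) i) (hle hw)
  have hmapψ : ∀ z ∈ ψ, γ z ∈ ψ := by
    have hle : ψ ≤ ψ.comap γ.toMonoidHom := by
      refine layer_le_iff.2 ⟨fun z hz v _ => ?_, fun z hz => ?_⟩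
      · show γ (cm z v) ∈ ψ
        rw [map_cm]; exact hφG _ (hmapφ z hz) _
      · show γ (z ^ p) ∈ ψ
        rw [map_pow]; exact pow_mem_layer (hmapφ z hz)
    exact fun z hz => hle hz
  by_cases hψ1 : ψ = ⊥
  · have h1 := Subgroup.relIndex_mul_relIndex (⊥ : Subgroup G) ψ φ bot_le hψφ
    have h2 := Subgroup.relIndex_mul_relIndex (⊥ : Subgroup G) φ L bot_le hC.phiL
    have h3 := Subgroup.relIndex_mul_relIndex (⊥ : Subgroup G) L E bot_le hC.LE
    rw [Subgroup.relIndex_bot_left, Subgroup.relIndex_bot_left, hidx, hψ1, Subgroup.card_bot, one_mul] at h1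
    rw [Subgroup.relIndex_bot_left, Subgroup.relIndex_bot_left, hC.idxPhi, ← h1] at h2
    rw [Subgroup.relIndex_bot_left, Subgroup.relIndex_bot_left, hC.idxL, ← h2] at h3
    rw [← h3]
    ring
  exfalso
  set χ := nx p E ψ with hχd
  haveI hχn : χ.Normal := nx_normal
  have hχψ : χ ≤ ψ := nx_le
  set π1 := QuotientGroup.mk' χ with hπ1
  have hB1 : Bil E φ ψ χ := ⟨hφE, hψE, fun _ hd _ hv => cm_mem_layer hd hv, fun _ hz _ hv => cm_mem_nx hz hv⟩
  have hpow1 : ∀ z ∈ ψ, z ^ p ∈ χ := fun z hz => pow_mem_nx hz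
  have hcpow : c ^ p ∈ χ := by
    have h1 : π1 ((a * c) ^ p) = π1 (a ^ p) * π1 (c ^ p) := by
      refine mk_mul_pow hC.odd (cm_mem_nx (cm_mem_layer hcφ hC.haE) hC.haE)
        (cm_mem_nx (cm_mem_layer hcφ hC.haE) (hφE hcφ)) (hpow1 _ (cm_mem_layer hcφ hC.haE))
    rw [show a * c = b⁻¹ * a * b⁻¹⁻¹ by rw [inv_inv, conj_eq_mul_cm], conj_pow, inv_inv,
      mk_conj_of_cm (cm_mem_nx (hP a hC.haE) hC.hb)] at h1
    exact mk_eq_one.1 (mul_eq_left.1 h1.symm)
  have hφpow : ∀ z ∈ φ, z ^ p ∈ χ := by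
    intro z hz
    obtain ⟨i, w, hw, rfl⟩ := hφdec z hz
    refine mk_eq_one.1 ?_
    have hci : c ^ i ∈ φ := zpow_mem hcφ i
    have hd : cm w (c ^ i) ∈ ψ := cm_mem_layer (hψφ hw) (hφE hci)
    rw [mk_mul_pow hC.odd (cm_mem_nx hd (hφE hci)) (cm_mem_nx hd (hψE hw)) (hpow1 _ hd),
      mk_eq_one.2 (hpow1 w hw), mul_one, ← zpow_natCast, zpow_comm, zpow_natCast]
    exact mk_eq_one.2 (zpow_mem hcpow i)
  have hcmz : ∀ z ∈ φ, ∀ v ∈ E, ∃ i : ℤ, π1 (cm z v) = π1 (cm c v) ^ i := by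
    intro z hz v hv
    obtain ⟨i, w, hw, rfl⟩ := hφdec z hz
    refine ⟨i, ?_⟩
    rw [hB1.left (zpow_mem hcφ i) (hψφ hw) hv, hB1.zpow_left hcφ hv, mk_eq_one.2 (cm_mem_nx hw hv), mul_one]
  -- faithfulness
  set K : Subgroup G :=
    { carrier := {v | v ∈ E ∧ ∀ z ∈ φ, cm z v ∈ χ}
      one_mem' := ⟨one_mem _, fun z _ => by rw [cm_one_right]; exact one_mem _⟩
      mul_mem' := by
        rintro u v ⟨hu, hu'⟩ ⟨hv, hv'⟩
        exact ⟨mul_mem hu hv, fun z hz => mk_eq_one.1 (by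
          rw [hB1.right hz hu hv, mk_eq_one.2 (hu' z hz), mk_eq_one.2 (hv' z hz), mul_one])⟩
      inv_mem' := by
        rintro u ⟨hu, hu'⟩
        refine ⟨inv_mem hu, fun z hz => mk_eq_one.1 ?_⟩
        have h1 := hB1.right hz hu (inv_mem hu)
        rwa [mul_inv_cancel, cm_one_right, map_one, mk_eq_one.2 (hu' z hz), one_mul, eq_comm] at h1 } with hK
  have hKinv : Inv E K := by
    intro α v hv
    refine ⟨(α v).2, fun z hz => ?_⟩
    have hzE := hφE hz
    have hφinv : Inv E φ := inv_phi E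
    have h1 := hv.2 _ (Inv.af hφinv α⁻¹ hzE hz)
    have h2 := Inv.af (inv_nx (inv_layer E) hψE) α
      (hψE (hχψ h1)) h1
    rw [af_cm α (autFun_mem _ hzE) v.2, autFun_apply_inv, autFun_apply] at h2
    exact h2
  have hKφ : K = φ := by
    refine hC.eq_phi hKinv (fun w hw => ⟨hφE hw, fun z hz => hB1.phi_right hpow1 hz hw⟩) (fun v hv => hv.1) ?_
    intro h
    refine hψ1 (absorb hC.grp (?_ : ψ ≤ χ))
    exact layer_le_iff.2 ⟨fun z hz v hv => (h.ge hv).2 z hz, hφpow⟩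
  have hfaith : ∀ v ∈ E, cm c v ∈ χ → v ∈ φ := fun v hv h => hKφ.le ⟨hv, fun z hz => by
    obtain ⟨i, hi⟩ := hcmz z hz v hv
    rw [mk_eq_one.2 h, one_zpow] at hi
    exact mk_eq_one.1 hi⟩
  set da := cm c a with hdad
  set db := cm c b with hdbd
  have hda : da ∈ ψ := cm_mem_layer hcφ hC.haE
  have hdb : db ∈ ψ := cm_mem_layer hcφ hC.hb
  have hda' : da ∉ χ := fun h => hC.ha' (hfaith a hC.haE h)
  have hdb' : db ∉ χ ⊔ zpowers da := by
    intro h
    obtain ⟨z, hz, y, hy, hzy⟩ := Subgroup.mem_sup_of_normal_left.1 h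
    obtain ⟨i, rfl⟩ := mem_zpowers_iff.1 hy
    have h1 : cm c (b * a ^ (-i)) ∈ χ := by
      refine mk_eq_one.1 ?_
      rw [hB1.right hcφ hC.hb (zpow_mem hC.haE _), hB1.zpow_right hcφ hC.haE, ← hdbd, ← hdad, ← hzy, map_mul,
        mk_eq_one.2 hz, one_mul, map_zpow, ← zpow_add, add_neg_cancel, zpow_zero]
    have h3 := mul_mem (hC.phiL (hfaith _ (mul_mem hC.hb (zpow_mem hC.haE _)) h1)) (zpow_mem hC.ha i)
    rw [mul_assoc, ← zpow_add, neg_add_cancel, zpow_zero, mul_one] at h3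
    exact hC.hb' h3
  -- the next layer
  set ω := nx p E χ with hωd
  haveI hωn : ω.Normal := nx_normal
  have hωχ : ω ≤ χ := nx_le
  set π := QuotientGroup.mk' ω with hπ
  have hχE : χ ≤ E := hχψ.trans hψE
  have hB2 : Bil E ψ χ ω := ⟨hψE, hχE, fun _ hd _ hv => cm_mem_nx hd hv, fun _ hz _ hv => cm_mem_nx hz hv⟩
  have hpow2 : ∀ z ∈ χ, z ^ p ∈ ω := fun z hz => pow_mem_nx hz
  have hψφω : ∀ d ∈ ψ, ∀ w ∈ φ, cm d w ∈ ω := fun d hd w hw => hB2.phi_right hpow2 hd hw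
  have hcommψ : ∀ d ∈ ψ, ∀ w ∈ φ, Commute (π d) (π w) := fun d hd w hw =>
    mk_cm_eq_one_iff.2 (hψφω d hd w hw)
  let P : ψ →* G ⧸ ω := MonoidHom.mk' (fun d => π (d : G) ^ p) fun d e => by
    show π ((d : G) * e) ^ p = _
    rw [map_mul, (hcommψ _ d.2 _ (hψφ e.2)).mul_pow]
  have hψpow : ∀ d ∈ ψ, d ^ p ∈ ω := by
    have hle : ψ ≤ P.ker.map ψ.subtype := by
      conv_lhs => rw [hψd]
      refine layer_le_iff.2 ⟨fun z hz v hv => ⟨⟨_, cm_mem_layer hz hv⟩, ?_, rfl⟩,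
        fun z hz => ⟨⟨_, pow_mem_layer hz⟩, ?_, rfl⟩⟩
      · rw [SetLike.mem_coe, MonoidHom.mem_ker]
        show π (cm z v) ^ p = 1
        have hcom : Commute (cm (π z) (π v)) (π z) := by
          rw [← map_cm]; exact hcommψ _ (cm_mem_layer hz hv) z hz
        have h1 := cm_pow_left hcom (p : ℤ)
        rw [zpow_natCast, zpow_natCast, ← map_pow, ← map_cm, ← map_cm] at h1
        rw [← h1]
        exact mk_eq_one.2 (cm_mem_nx (hφpow z hz) hv)
      · rw [SetLike.mem_coe, MonoidHom.mem_ker]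
        show π (z ^ p) ^ p = 1
        rw [← map_pow]
        exact mk_eq_one.2 (hpow2 _ (hφpow z hz))
    intro d hd
    obtain ⟨d', hd', rfl⟩ := hle hd
    refine mk_eq_one.1 ?_
    rw [map_pow]; exact hd'
  have hχidx : ω.relIndex χ ≤ p := by
    have h1 := relIndex_le hsr (N := ω) (A := ψ) (fun u hu v hv => hψφω u hu v (hψφ hv)) hψpow
    have h2 := Subgroup.relIndex_mul_relIndex (⊥ : Subgroup G) ω ψ bot_le (hωχ.trans hχψ)
    have h3 := Subgroup.relIndex_mul_relIndex (⊥ : Subgroup G) ω χ bot_le hωχ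
    rw [Subgroup.relIndex_bot_left, Subgroup.relIndex_bot_left] at h2 h3
    have k1 : p * Nat.card χ ≤ Nat.card (χ ⊔ zpowers da : Subgroup G) := mul_card_le_sup hC.grp hda'
    have k2 : p * Nat.card (χ ⊔ zpowers da : Subgroup G) ≤ Nat.card ψ :=
      (mul_card_le_sup hC.grp hdb').trans (Subgroup.card_le_of_le
        (sup_le (sup_le hχψ (Subgroup.zpowers_le.2 hda)) (Subgroup.zpowers_le.2 hdb)))
    refine Nat.le_of_mul_le_mul_left ?_ (Nat.mul_pos (Nat.mul_pos hp.out.pos hp.out.pos) (Nat.card_pos (α := ω)))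
    calc p * p * Nat.card ω * ω.relIndex χ = p * (p * Nat.card χ) := by rw [← h3]; ring
      _ ≤ Nat.card ψ := le_trans (Nat.mul_le_mul_left p k1) k2
      _ = Nat.card ω * ω.relIndex ψ := h2.symm
      _ ≤ Nat.card ω * p ^ 3 := Nat.mul_le_mul_left _ h1
      _ = p * p * Nat.card ω * p := by ring
  have hχG : ∀ z ∈ χ, ∀ y, cm z y ∈ ω := by
    intro z hz y
    by_cases hzω : z ∈ ω
    · exact cm_mem hzω y
    · exact cm_mem_of_relIndex hC.grp (relIndex_eq_prime hC.grp hχidx hz hzω) hz y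
  -- the pairing
  have hwd : ∀ d ∈ ψ, ∀ d' ∈ ψ, π1 d = π1 d' → ∀ v ∈ E, π (cm d v) = π (cm d' v) := by
    intro d hd d' hd' he v hv
    have h1 : d⁻¹ * d' ∈ χ := (QuotientGroup.eq (s := χ)).1 he
    rw [show d' = d * (d⁻¹ * d') from (mul_inv_cancel_left _ _).symm, hB2.left hd (hχψ h1) hv,
      mk_eq_one.2 (cm_mem_nx h1 hv), mul_one]
  set k0 := cm b x with hk0
  obtain ⟨k, w', hw', hke⟩ := hC.decL (hC.cm_E hC.hb x)
  have hk : ¬ (p : ℤ) ∣ k := by
    rintro ⟨m, rfl⟩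
    refine hC.bx (hke ▸ mul_mem ?_ hw')
    rw [zpow_mul, zpow_natCast]
    exact zpow_mem (pow_mem_phi hC.haE) m
  set σ := (MulAut.conj x⁻¹).toMonoidHom with hσ
  have hσv : ∀ v : G, σ v = v * cm v x := fun v => by
    show x⁻¹ * v * x⁻¹⁻¹ = _
    rw [inv_inv, conj_eq_mul_cm]
  set q := cm c x with hqd
  have hq : q ∈ ψ := hφG c hcφ x
  have hwa : cm a x ∈ φ := hC.cm_L hC.ha x
  have hs1 : ∀ v ∈ E, π1 (cm (c * q) v) = π1 (cm c v) := fun v hv => by
    rw [hB1.left hcφ (hψφ hq) hv, mk_eq_one.2 (cm_mem_nx hq hv), mul_one]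
  have hphi1 : ∀ w ∈ φ, π1 (cm c w) = 1 := fun w hw => mk_eq_one.2 (hB1.phi_right hpow1 hcφ hw)
  have hσa : π1 (σ da) = π1 da := by
    rw [hdad, map_cm σ c a, hσv, hσv, hs1 _ (mul_mem hC.haE (hφE hwa)),
      hB1.right hcφ hC.haE (hφE hwa), hphi1 _ hwa, mul_one]
  have hσb : π1 (σ db) = π1 (db * da ^ k) := by
    rw [hdbd, map_cm σ c b, hσv, hσv, hke, hs1 _ (mul_mem hC.hb (mul_mem (zpow_mem hC.haE k) (hφE hw'))),
      hB1.right hcφ hC.hb (mul_mem (zpow_mem hC.haE k) (hφE hw')), hB1.right hcφ (zpow_mem hC.haE k) (hφE hw'),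
      hphi1 _ hw', mul_one, hB1.zpow_right hcφ hC.haE, map_mul, map_zpow]
  have hσψ : ∀ d ∈ ψ, σ d ∈ ψ := fun d hd => hψn.conj_mem d hd x⁻¹
  have hfix : ∀ d ∈ ψ, ∀ v ∈ E, π (cm (σ d) (σ v)) = π (cm d v) := fun d hd v hv => by
    rw [← map_cm σ, hσv, map_mul, mk_eq_one.2 (hχG _ (cm_mem_nx hd hv) x), mul_one]
  set faa := π (cm da a) with hfaa
  set fab := π (cm da b) with hfab
  set fba := π (cm db a) with hfba
  set fbb := π (cm db b) with hfbb
  have hfp : ∀ d ∈ ψ, ∀ v ∈ E, π (cm d v) ^ p = 1 := fun d hd v hv => by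
    rw [← map_pow]; exact mk_eq_one.2 (hpow2 _ (cm_mem_nx hd hv))
  have hdak : db * da ^ k ∈ ψ := mul_mem hdb (zpow_mem hda k)
  have haa : faa = 1 := by
    have h1 := hfix db hdb a hC.haE
    rw [hwd _ (hσψ db hdb) _ hdak hσb _ (by rw [hσv]; exact mul_mem hC.haE (hφE hwa)), hσv,
      hB2.right hdak hC.haE (hφE hwa), mk_eq_one.2 (hψφω _ hdak _ hwa), mul_one,
      hB2.left hdb (zpow_mem hda k) hC.haE, hB2.zpow_left hda hC.haE] at h1
    exact eq_one_of_zpow (hfp da hda a hC.haE) hk (mul_eq_left.1 h1)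
  have hsym : fab = fba := by
    have hdz : ∀ d ∈ ψ, ∀ v : G, π (v⁻¹ * d * v) = π d * π (cm d v) := fun d _ v => by
      rw [conj_eq_mul_cm, map_mul]
    have h1 : π (cm c (a * b)) = π db * (π da * fab) := by
      rw [cm_mul_right, map_mul, ← hdbd, ← hdad, hdz da hda b]
    have h2 : π (cm c (a * b)) = π da * (π db * fba) := by
      have hba : π (cm c (b * a)) = π da * (π db * fba) := by
        rw [cm_mul_right, map_mul, ← hdad, ← hdbd, hdz db hdb a]
      rw [show a * b = b * a * c from mul_eq_mul_cm a b, cm_mul_right, cm_self, one_mul,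
        mk_conj_of_cm (hψφω _ (cm_mem_layer hcφ (mul_mem hC.hb hC.haE)) c hcφ), hba]
    rw [h1, ← mul_assoc, ← mul_assoc, (hcommψ db hdb da (hψφ hda)).eq] at h2
    exact mul_left_cancel h2
  have hba : fba = 1 := by
    have h1 := hfix db hdb b hC.hb
    have hak : a ^ k * w' ∈ E := mul_mem (zpow_mem hC.haE k) (hφE hw')
    have hσbv : σ b = b * (a ^ k * w') := by rw [hσv, hke]
    rw [hσbv, hwd _ (hσψ db hdb) _ hdak hσb _ (mul_mem hC.hb hak), hB2.right hdak hC.hb hak,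
      hB2.right hdak (zpow_mem hC.haE k) (hφE hw'), mk_eq_one.2 (hψφω _ hdak _ hw'), mul_one,
      hB2.zpow_right hdak hC.haE, hB2.left hdb (zpow_mem hda k) hC.haE,
      hB2.left hdb (zpow_mem hda k) hC.hb, hB2.zpow_left hda hC.haE, hB2.zpow_left hda hC.hb, ← hfaa, ← hfab,
      ← hfba, ← hfbb, haa, one_zpow, mul_one, hsym, mul_assoc, ← zpow_add] at h1
    refine eq_one_of_zpow (hfp db hdb a hC.haE) ?_ (mul_eq_left.1 h1)
    intro h
    rw [← two_mul] at h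
    rcases (Nat.prime_iff_prime_int.1 hp.out).dvd_or_dvd h with h2 | h2
    · exact hC.odd ((Nat.prime_dvd_prime_iff_eq hp.out Nat.prime_two).1 (by exact_mod_cast h2))
    · exact hk h2
  -- the kernel of the pairing
  have hkill : ∀ d ∈ ψ, cm d a ∈ ω := by
    have hv : ∀ v ∈ E, π (cm (cm c v) a) = 1 := by
      let T : Subgroup G :=
        { carrier := {v | v ∈ E ∧ π (cm (cm c v) a) = 1}
          one_mem' := ⟨one_mem _, by rw [cm_one_right, cm_one_left, map_one]⟩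
          mul_mem' := by
            rintro u v ⟨hu, hu'⟩ ⟨hv, hv'⟩
            refine ⟨mul_mem hu hv, ?_⟩
            rw [hwd _ (cm_mem_layer hcφ (mul_mem hu hv)) _
              (mul_mem (cm_mem_layer hcφ hu) (cm_mem_layer hcφ hv))
              (by rw [hB1.right hcφ hu hv, map_mul]) a hC.haE,
              hB2.left (cm_mem_layer hcφ hu) (cm_mem_layer hcφ hv) hC.haE, hu', hv', mul_one]
          inv_mem' := by
            rintro u ⟨hu, hu'⟩
            refine ⟨inv_mem hu, ?_⟩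
            have h1 := hwd _ (cm_mem_layer hcφ (mul_mem hu (inv_mem hu))) _
              (mul_mem (cm_mem_layer hcφ hu) (cm_mem_layer hcφ (inv_mem hu)))
              (by rw [hB1.right hcφ hu (inv_mem hu), map_mul]) a hC.haE
            rwa [mul_inv_cancel, cm_one_right, cm_one_left, map_one,
              hB2.left (cm_mem_layer hcφ hu) (cm_mem_layer hcφ (inv_mem hu)) hC.haE, hu', one_mul,
              eq_comm] at h1 }
      intro v hv
      exact (hC.mem_of (K := T) ⟨hC.haE, haa⟩ ⟨hC.hb, hba⟩ (fun w hw => ⟨hφE hw, by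
        have h1 : cm c w ∈ χ := hB1.phi_right hpow1 hcφ hw
        exact mk_eq_one.2 (cm_mem_nx h1 hC.haE)⟩) hv).2
    have hle : ψ ≤ (hB2.homL hC.haE).ker.map ψ.subtype := by
      conv_lhs => rw [hψd]
      refine layer_le_iff.2 ⟨fun z hz v hv' => ⟨⟨_, cm_mem_layer hz hv'⟩, ?_, rfl⟩,
        fun z hz => ⟨⟨_, pow_mem_layer hz⟩, ?_, rfl⟩⟩
      · rw [SetLike.mem_coe, MonoidHom.mem_ker]
        show π (cm (cm z v) a) = 1
        obtain ⟨i, hi⟩ := hcmz z hz v hv'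
        rw [← map_zpow] at hi
        rw [hwd _ (cm_mem_layer hz hv') _ (zpow_mem (cm_mem_layer hcφ hv') i) hi a hC.haE,
          hB2.zpow_left (cm_mem_layer hcφ hv') hC.haE, hv v hv', one_zpow]
      · rw [SetLike.mem_coe, MonoidHom.mem_ker]
        exact mk_eq_one.2 (cm_mem_nx (hφpow z hz) hC.haE)
    intro d hd
    obtain ⟨d', hd', rfl⟩ := hle hd
    exact mk_eq_one.1 hd'
  -- the layer vanishes
  have hχ1 : χ = ⊥ := by
    set K5 : Subgroup G :=
      { carrier := {v | v ∈ E ∧ ∀ d ∈ ψ, cm d v ∈ ω}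
        one_mem' := ⟨one_mem _, fun z _ => by rw [cm_one_right]; exact one_mem _⟩
        mul_mem' := by
          rintro u v ⟨hu, hu'⟩ ⟨hv, hv'⟩
          exact ⟨mul_mem hu hv, fun z hz => mk_eq_one.1 (by
            rw [hB2.right hz hu hv, mk_eq_one.2 (hu' z hz), mk_eq_one.2 (hv' z hz), mul_one])⟩
        inv_mem' := by
          rintro u ⟨hu, hu'⟩
          refine ⟨inv_mem hu, fun z hz => mk_eq_one.1 ?_⟩
          have h1 := hB2.right hz hu (inv_mem hu)
          rwa [mul_inv_cancel, cm_one_right, map_one, mk_eq_one.2 (hu' z hz), one_mul, eq_comm] at h1 }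
    have h5 : K5 = E := by
      refine (hC.irr K5 (fun α v hv => ⟨(α v).2, fun z hz => ?_⟩)
        (fun w hw => ⟨hφE hw, fun d hd => hψφω d hd w hw⟩) (fun v hv => hv.1)).resolve_left
        fun h => hC.ha' (h.le ⟨hC.haE, hkill⟩)
      have h1 := hv.2 _ (Inv.af (inv_layer E) α⁻¹ (hψE hz) hz)
      have h2 := Inv.af (inv_nx (inv_nx (inv_layer E) hψE) hχE) α (hχE (hωχ h1)) h1
      rw [af_cm α (autFun_mem _ (hψE hz)) v.2, autFun_apply_inv, autFun_apply] at h2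
      exact h2
    refine absorb hC.grp (?_ : χ ≤ ω)
    exact nx_le_iff.2 ⟨fun d hd v hv => (h5.ge hv).2 d hd, hψpow⟩
  refine hC.false_of_section γ hγ ψ ⊥ hmapψ (fun m hm => ?_) (fun n hn v hv => hχ1.le (cm_mem_nx hn hv)) hdb ?_
  · rw [Subgroup.mem_bot] at hm ⊢; rw [hm, map_one]
  · intro h
    rw [Subgroup.mem_bot] at h
    have h1 := hσb
    rw [hσv, h, mul_one, map_mul] at h1
    exact hda' (mk_eq_one.1 (eq_one_of_zpow (by rw [← map_pow]; exact mk_eq_one.2 (hpow1 _ hda)) hk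
      (by rw [← map_zpow]; exact mul_eq_left.1 h1.symm)))

end Cfsg.Agent.Fusion.RankThree.Pearl
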