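import Cfsg.Agent.Lib.Fusion.RankThree.Pearl.Basic

/-!
The power map on the Frattini quotient: a faithful one contradicts the existence of a second conjugate.
-/

set_option autoImplicit false
set_option linter.unusedSectionVars false
set_option linter.style.haveILetI false

namespace Cfsg.Agent.Fusion.RankThree.Pearl

open Cfsg Cfsg.Agent.Fusion Cfsg.Agent.Fusion.Basic Cfsg.Agent.Fusion.Saturation
open Cfsg.Agent.Fusion.RankThree Cfsg.Agent.Fusion.RankThree.Normal
open Subgroup (zpowers closure mem_zpowers mem_zpowers_iff subset_closure closure_le)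

variable {G : Type*} [Group G] [Finite G] {p : ℕ} [hp : Fact p.Prime] {E L : Subgroup G} {a b x : G}

section

variable (hC : Ctx p E L a b x)
include hC

theorem Ctx.bilTop : Bil E E (phi p E) (layer p E) :=
  ⟨le_rfl, phi_le, fun _ hd _ hv => cm_mem_phi hd hv, fun _ hz _ hv => cm_mem_layer hz hv⟩

theorem Ctx.mk_pow_mul [(layer p E).Normal] {u v : G} (hu : u ∈ E) (hv : v ∈ E) :
    QuotientGroup.mk' (layer p E) ((u * v) ^ p) =
      QuotientGroup.mk' (layer p E) (u ^ p) * QuotientGroup.mk' (layer p E) (v ^ p) :=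
  mk_mul_pow hC.odd (cm_mem_layer (cm_mem_phi hv hu) hu) (cm_mem_layer (cm_mem_phi hv hu) hv)
    (pow_mem_layer (cm_mem_phi hv hu))

/-- The `p`-th power as a homomorphism modulo the second layer. -/
def Ctx.powHom [(layer p E).Normal] : E →* G ⧸ layer p E :=
  MonoidHom.mk' (fun v => QuotientGroup.mk' (layer p E) ((v : G) ^ p)) fun u v => hC.mk_pow_mul u.2 v.2

/-- Either the power map is faithful modulo the commutators or all powers lie in the second layer. -/
theorem Ctx.powers (hc : cm a b ∉ layer p E) :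
    (∀ v ∈ E, v ^ p ∈ com E ⊔ layer p E → v ∈ phi p E) ∨ ∀ v ∈ E, v ^ p ∈ layer p E := by
  haveI := hC.nE; haveI := com_normal (E := E)
  haveI hn : (layer p E).Normal := layer_normal
  set C1 := com E ⊔ layer p E with hC1
  have hC1E : C1 ≤ E := sup_le ((com_le_phi (p := p)).trans phi_le) (layer_le.trans phi_le)
  have hinv : ∀ U : Subgroup G, Inv E U → ∀ K : Subgroup G, (∀ v, v ∈ K ↔ v ∈ E ∧ v ^ p ∈ U) → Inv E K :=
    fun U hU K hK α v hv => (hK _).2 ⟨(α v).2, by
      rw [← autFun_apply, ← af_pow α v.2]; exact Inv.af hU α (pow_mem v.2 p) ((hK _).1 hv).2⟩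
  have hC1inv : Inv E C1 := by
    rw [hC1, com, ← Subgroup.closure_eq (layer p E), ← Subgroup.closure_union]
    refine inv_closure' ?_ fun α _ hv => ?_
    · rintro _ (⟨u, hu, v, hv, rfl⟩ | hv)
      exacts [phi_le (p := p) (cm_mem_phi hu hv), phi_le (p := p) (layer_le hv)]
    · rcases hv with ⟨u, hu, v, hv, rfl⟩ | hv
      · rw [af_cm α hu hv]; exact subset_closure (Or.inl ⟨_, autFun_mem α hu, _, autFun_mem α hv, rfl⟩)
      · exact subset_closure (Or.inr (Inv.af (inv_layer E) α (phi_le (p := p) (layer_le hv)) hv))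
  set K : Subgroup G := ((C1.map (QuotientGroup.mk' (layer p E))).comap hC.powHom).map E.subtype with hK
  have hKiff : ∀ v, v ∈ K ↔ v ∈ E ∧ v ^ p ∈ C1 := fun v => by
    constructor
    · rintro ⟨w, hw, rfl⟩
      exact ⟨w.2, (mem_map_mk le_sup_right).1 hw⟩
    · rintro ⟨hv, hv'⟩
      exact ⟨⟨v, hv⟩, Subgroup.mem_map_of_mem _ hv', rfl⟩
  rcases hC.irr K (hinv C1 hC1inv K hKiff)
      (fun z hz => (hKiff z).2 ⟨phi_le hz, Subgroup.mem_sup_right (pow_mem_layer hz)⟩)
      (Subgroup.map_subtype_le _) with h | h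
  · exact Or.inl fun v hv hv' => h.le ((hKiff v).2 ⟨hv, hv'⟩)
  refine Or.inr ?_
  set K0 : Subgroup G := hC.powHom.ker.map E.subtype with hK0
  have hK0iff : ∀ v, v ∈ K0 ↔ v ∈ E ∧ v ^ p ∈ layer p E := fun v => by
    constructor
    · rintro ⟨w, hw, rfl⟩
      exact ⟨w.2, mk_eq_one.1 hw⟩
    · rintro ⟨hv, hv'⟩
      exact ⟨⟨v, hv⟩, mk_eq_one.2 hv', rfl⟩
  rcases hC.irr K0 (hinv _ (inv_layer E) K0 hK0iff)
      (fun z hz => (hK0iff z).2 ⟨phi_le hz, pow_mem_layer hz⟩) (Subgroup.map_subtype_le _) with h0 | h0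
  swap
  · exact fun v hv => ((hK0iff v).1 (h0.ge hv)).2
  exfalso
  set c := QuotientGroup.mk' (layer p E) (cm a b) with hcd
  have hdec : ∀ v ∈ E, ∃ i : ℤ, QuotientGroup.mk' (layer p E) (v ^ p) = c ^ i := by
    intro v hv
    have hle : C1 ≤ (zpowers c).comap (QuotientGroup.mk' (layer p E)) := by
      refine sup_le ?_ fun z hz => ?_
      · rw [com, closure_le]
        rintro _ ⟨u, hu, w, hw, rfl⟩
        obtain ⟨i, hi⟩ := hC.gen_cm hC.bilTop (fun z hz => pow_mem_layer hz) hu hw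
        exact ⟨i, hi.symm⟩
      · rw [Subgroup.mem_comap, mk_eq_one.2 hz]; exact one_mem _
    obtain ⟨i, hi⟩ := mem_zpowers_iff.1 (hle ((hKiff v).1 (h.ge hv)).2)
    exact ⟨i, hi.symm⟩
  obtain ⟨i, hi⟩ := hdec a hC.haE
  obtain ⟨j, hj⟩ := hdec b hC.hb
  have hcp : c ^ p = 1 := by
    rw [hcd, ← map_pow]; exact mk_eq_one.2 (pow_mem_layer (cm_mem_phi hC.haE hC.hb))
  have hmem : b ^ i * a ^ (-j) ∈ phi p E := h0.le ⟨(⟨b, hC.hb⟩ : E) ^ i * (⟨a, hC.haE⟩ : E) ^ (-j), by
    rw [SetLike.mem_coe, MonoidHom.mem_ker, map_mul, map_zpow, map_zpow]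
    show QuotientGroup.mk' (layer p E) (b ^ p) ^ i * QuotientGroup.mk' (layer p E) (a ^ p) ^ (-j) = 1
    rw [hi, hj, ← zpow_mul, ← zpow_mul, ← zpow_add, show j * i + i * -j = 0 by ring, zpow_zero], rfl⟩
  obtain ⟨⟨k, rfl⟩, -⟩ := hC.indep hmem
  refine hC.ha' (h0.le ((hK0iff a).2 ⟨hC.haE, mk_eq_one.1 ?_⟩))
  rw [hi, zpow_mul, zpow_natCast, hcp, one_zpow]

set_option maxHeartbeats 800000 in
/-- A faithful power map contradicts a second conjugate. -/
theorem Ctx.false_powers (hsr : Cfsg.SectionalPRankLE p 3 G) (hc : cm a b ∉ layer p E)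
    (hA : ∀ v ∈ E, v ^ p ∈ com E ⊔ layer p E → v ∈ phi p E) (γ : G ≃* G)
    (hγ : E.map γ.toMonoidHom ≠ E) (hγL : L.map γ.toMonoidHom = L) : False := by
  haveI := hC.nE; haveI := hC.nL; haveI := hC.phi_n; haveI := com_normal (E := E)
  haveI hψn : (layer p E).Normal := layer_normal
  set ψ := layer p E with hψ
  set φ := phi p E with hφ
  set π := QuotientGroup.mk' ψ with hπ
  set c := cm a b with hcd
  set C1 := com E ⊔ ψ with hC1
  have hC1φ : C1 ≤ φ := sup_le com_le_phi layer_le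
  haveI : (phi p φ).Normal := phi_normal
  haveI : (phi p L).Normal := phi_normal
  have hψC1 : ψ ≤ C1 := le_sup_right
  have hcC1 : c ∈ C1 := Subgroup.mem_sup_left (cm_mem_com hC.haE hC.hb)
  have hap : a ^ p ∈ φ := pow_mem_phi hC.haE
  have hzap : ∀ i : ℤ, π ((a ^ i) ^ p) = π (a ^ p) ^ i := fun i => by
    rw [← map_zpow, ← zpow_natCast, ← zpow_natCast, zpow_comm]
  -- the layer is the Frattini subgroup
  have hphiφ : phi p φ = ψ := by
    have hle : phi p φ ≤ ψ := phi_le_iff.2 ⟨fun v hv => pow_mem_layer hv,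
      fun u hu v hv => cm_mem_layer hu (phi_le hv)⟩
    have h1 := relIndex_le hsr (N := phi p φ) (A := φ) (fun u hu v hv => cm_mem_phi hu hv)
      (fun u hu => pow_mem_phi hu)
    have h2 := Subgroup.relIndex_mul_relIndex (⊥ : Subgroup G) (phi p φ) φ bot_le phi_le
    rw [Subgroup.relIndex_bot_left, Subgroup.relIndex_bot_left] at h2
    have k1 : p * Nat.card ψ ≤ Nat.card C1 :=
      (mul_card_le_sup hC.grp (hc : c ∉ ψ)).trans
        (Subgroup.card_le_of_le (sup_le hψC1 (Subgroup.zpowers_le.2 hcC1)))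
    have haC : a ^ p ∉ C1 := fun h => hC.ha' (hA a hC.haE h)
    have k2 : p * Nat.card C1 ≤ Nat.card (C1 ⊔ zpowers (a ^ p) : Subgroup G) := mul_card_le_sup hC.grp haC
    have hbC : b ^ p ∉ C1 ⊔ zpowers (a ^ p) := by
      intro h
      obtain ⟨z, hz, y, hy, hzy⟩ := Subgroup.mem_sup_of_normal_left.1 h
      obtain ⟨i, rfl⟩ := mem_zpowers_iff.1 hy
      have hba : b * a ^ (-i) ∈ φ := by
        refine hA _ (mul_mem hC.hb (zpow_mem hC.haE _)) ((mem_map_mk hψC1).1 ?_)
        rw [hC.mk_pow_mul hC.hb (zpow_mem hC.haE _), ← hzy, map_mul, hzap, map_zpow, mul_assoc,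
          ← zpow_add, add_neg_cancel, zpow_zero, mul_one]
        exact Subgroup.mem_map_of_mem _ hz
      have h3 := mul_mem (hC.phiL hba) (zpow_mem hC.ha i)
      rw [mul_assoc, ← zpow_add, neg_add_cancel, zpow_zero, mul_one] at h3
      exact hC.hb' h3
    have k3 : p * Nat.card (C1 ⊔ zpowers (a ^ p) : Subgroup G) ≤ Nat.card φ :=
      (mul_card_le_sup hC.grp hbC).trans (Subgroup.card_le_of_le (sup_le
        (sup_le hC1φ (Subgroup.zpowers_le.2 hap)) (Subgroup.zpowers_le.2 (pow_mem_phi hC.hb))))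
    refine Subgroup.eq_of_le_of_card_ge hle (Nat.le_of_mul_le_mul_left ?_ (pow_pos hp.out.pos 3))
    calc p ^ 3 * Nat.card ψ = p * (p * (p * Nat.card ψ)) := by ring
      _ ≤ Nat.card φ := le_trans (Nat.mul_le_mul_left p (le_trans (Nat.mul_le_mul_left p k1) k2)) k3
      _ = Nat.card (phi p φ) * (phi p φ).relIndex φ := h2.symm
      _ ≤ p ^ 3 * Nat.card (phi p φ) := by rw [mul_comm (p ^ 3)]; exact Nat.mul_le_mul_left _ h1
  -- the Frattini subgroup of the line
  set T0 := phi p L with hT0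
  have hψT0 : ψ ≤ T0 := by
    rw [← hphiφ, hT0]
    exact phi_le_iff.2 ⟨fun v hv => pow_mem_phi (hC.phiL hv),
      fun u hu v hv => cm_mem_phi (hC.phiL hu) (hC.phiL hv)⟩
  have hapT : a ^ p ∈ T0 := pow_mem_phi hC.ha
  have hT0le : ∀ z ∈ T0, ∃ i : ℤ, π z = π (a ^ p) ^ i := by
    have hle : T0 ≤ (zpowers (π (a ^ p))).comap π := by
      refine phi_le_iff.2 ⟨fun v hv => ?_, fun u hu v hv => ?_⟩
      · obtain ⟨i, w, hw, rfl⟩ := hC.decL hv
        rw [Subgroup.mem_comap, hC.mk_pow_mul (zpow_mem hC.haE i) (phi_le hw),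
          mk_eq_one.2 (pow_mem_layer hw), mul_one, hzap]
        exact zpow_mem (mem_zpowers _) i
      · obtain ⟨i, w, hw, rfl⟩ := hC.decL hu
        obtain ⟨i', w', hw', rfl⟩ := hC.decL hv
        rw [Subgroup.mem_comap]
        have hcomm : Commute (π (a ^ i * w)) (π (a ^ i' * w')) := by
          have h1 : ∀ z ∈ φ, ∀ e ∈ E, Commute (π z) (π e) := fun z hz e he =>
            mk_cm_eq_one_iff.2 (cm_mem_layer hz he)
          rw [map_mul, map_mul]
          exact Commute.mul_left (((((Commute.refl a).zpow_left i).zpow_right i').map π).mul_right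
            (h1 w' hw' _ (zpow_mem hC.haE i)).symm)
            ((h1 w hw _ (zpow_mem hC.haE i')).mul_right (h1 w hw _ (phi_le hw')))
        rw [map_cm, cm_eq_one_iff.2 hcomm]
        exact one_mem _
    intro z hz
    obtain ⟨i, hi⟩ := mem_zpowers_iff.1 (hle hz)
    exact ⟨i, hi.symm⟩
  -- commutators into it
  have hC1step : ∀ y, cm c y ∈ ψ := by
    intro y
    have hC1c : C1 = ψ ⊔ zpowers c := by
      refine le_antisymm (sup_le ?_ le_sup_left) (sup_le hψC1 (Subgroup.zpowers_le.2 hcC1))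
      rw [com, closure_le]
      rintro _ ⟨u, hu, v, hv, rfl⟩
      obtain ⟨i, hi⟩ := hC.gen_cm hC.bilTop (fun z hz => pow_mem_layer hz) hu hv
      rw [← map_zpow] at hi
      have h1 : (c ^ i)⁻¹ * cm u v ∈ ψ := (QuotientGroup.eq (s := ψ)).1 hi.symm
      have h2 := mul_mem (Subgroup.mem_sup_right (zpow_mem (mem_zpowers c) i) : c ^ i ∈ ψ ⊔ zpowers c)
        (Subgroup.mem_sup_left h1)
      rwa [mul_inv_cancel_left] at h2
    have hidx : ψ.relIndex C1 ≤ p := by
      rw [relIndex_eq_card_map, hC1c, Subgroup.map_sup,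
        (Subgroup.map_eq_bot_iff ψ).2 (by rw [QuotientGroup.ker_mk']), bot_sup_eq, MonoidHom.map_zpowers,
        Nat.card_zpowers]
      exact orderOf_le_of_pow_eq_one hp.out.pos
        (by rw [← map_pow]; exact mk_eq_one.2 (pow_mem_layer (hC1φ hcC1)))
    exact cm_mem_of_relIndex hC.grp (relIndex_eq_prime hC.grp hidx hcC1 hc) hcC1 y
  have hphiT : ∀ z ∈ φ, ∀ y, cm z y ∈ T0 := by
    haveI : T0.Normal := phi_normal
    intro z hz y
    have hdec : φ ≤ (Subgroup.centralizer {QuotientGroup.mk' T0 y}).comap (QuotientGroup.mk' T0) := by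
      refine phi_le_iff.2 ⟨fun v hv => ?_, fun u hu v hv => ?_⟩
      · refine Subgroup.mem_comap.2 (Subgroup.mem_centralizer_singleton_iff.2 (mk_cm_eq_one_iff.2 ?_).eq)
        have hvy := hC.cm_E hv y
        have h1 : π (y⁻¹ * v ^ p * y) = π (v ^ p) * π (cm v y ^ p) := by
          rw [show y⁻¹ * v ^ p * y = (y⁻¹ * v * y) ^ p by
            rw [← inv_inv y, inv_inv y⁻¹, ← conj_pow], conj_eq_mul_cm, hC.mk_pow_mul hv (hC.LE hvy)]
        rw [conj_eq_mul_cm, map_mul, mul_right_inj] at h1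
        have h2 : (cm v y ^ p)⁻¹ * cm (v ^ p) y ∈ ψ := (QuotientGroup.eq (s := ψ)).1 h1.symm
        have h3 := mul_mem (pow_mem_phi hvy : cm v y ^ p ∈ T0) (hψT0 h2)
        rwa [mul_inv_cancel_left] at h3
      · refine Subgroup.mem_comap.2 (Subgroup.mem_centralizer_singleton_iff.2 (mk_cm_eq_one_iff.2 ?_).eq)
        obtain ⟨i, hi⟩ := hC.gen_cm hC.bilTop (fun z hz => pow_mem_layer hz) hu hv
        refine hψT0 (mk_cm_eq_one_iff.1 ?_)
        rw [hi]
        exact (mk_cm_eq_one_iff.2 (hC1step y)).zpow_left i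
    exact mk_cm_eq_one_iff.1 (Subgroup.mem_centralizer_singleton_iff.1 (hdec hz))
  have hcT : ∀ i : ℤ, c ^ i ∈ T0 → (p : ℤ) ∣ i := by
    intro i h
    by_contra hi
    obtain ⟨k, hk⟩ := hT0le _ h
    rw [← hzap] at hk
    have h1 : a ^ k ∈ φ := hA _ (zpow_mem hC.haE k)
      ((mem_map_mk hψC1).1 (hk ▸ Subgroup.mem_map_of_mem π (zpow_mem hcC1 i)))
    obtain ⟨m, rfl⟩ := hC.dvd_of_mem h1
    have hz : π ((a ^ ((p : ℤ) * m)) ^ p) = 1 := by
      refine mk_eq_one.2 (pow_mem_layer ?_)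
      rw [zpow_mul, zpow_natCast]
      exact zpow_mem (pow_mem_phi hC.haE) m
    rw [hz, map_zpow] at hk
    exact hc (mk_eq_one.1 (eq_one_of_zpow
      (by rw [← map_pow]; exact mk_eq_one.2 (pow_mem_layer (hC1φ hcC1))) hi hk))
  -- invariance
  have hmapL : ∀ d ∈ L, γ d ∈ L := fun d hd => hγL.le ⟨d, hd, rfl⟩
  have hmapT : ∀ t ∈ T0, γ t ∈ T0 := by
    intro t ht
    have h1 : γ t ∈ T0.map γ.toMonoidHom := ⟨t, ht, rfl⟩
    rw [hT0, phi_map, hγL] at h1
    exact h1
  have hmapφ : ∀ z ∈ φ, γ z ∈ φ := by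
    haveI : T0.Normal := phi_normal
    intro z hz
    obtain ⟨i, w, hw, he⟩ := hC.decL (hmapL z (hC.phiL hz))
    have h1 : cm (γ z) b ∈ T0 := by
      have h2 := hmapT _ (hphiT z hz (γ.symm b))
      rwa [map_cm, MulEquiv.apply_symm_apply] at h2
    rw [he, cm_mul_left] at h1
    have h3 := mul_mem h1 (inv_mem (hphiT w hw b))
    rw [mul_inv_cancel_right] at h3
    have h4 : cm (a ^ i) b ∈ T0 := by
      have := (inferInstance : T0.Normal).conj_mem _ h3 w
      rwa [show w * (w⁻¹ * cm (a ^ i) b * w) * w⁻¹ = cm (a ^ i) b by group] at this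
    have h5 : π (cm (a ^ i) b) = π (c ^ i) := by
      rw [map_zpow]; exact hC.bilTop.zpow_left hC.haE hC.hb i
    have h6 : c ^ i ∈ T0 := by
      have := mul_mem h4 (hψT0 ((QuotientGroup.eq (s := ψ)).1 h5))
      rwa [mul_inv_cancel_left] at this
    rw [he]
    obtain ⟨m, rfl⟩ := hcT i h6
    rw [zpow_mul, zpow_natCast]
    exact mul_mem (zpow_mem hap m) hw
  refine hC.false_of_section γ hγ φ ψ hmapφ (fun z hz => ?_) (fun n hn v hv => cm_mem_layer hn hv)
    (pow_mem_phi hC.hb : b ^ p ∈ φ) ?_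
  · have h1 : γ z ∈ (phi p φ).map γ.toMonoidHom := ⟨z, hphiφ.ge hz, rfl⟩
    rw [phi_map] at h1
    rw [← hphiφ]
    refine phi_le_iff.2 ⟨fun v hv => pow_mem_phi ?_, fun u hu v hv => cm_mem_phi ?_ ?_⟩ h1
    all_goals
      first
      | (obtain ⟨w, hw, rfl⟩ := hv; exact hmapφ w hw)
      | (obtain ⟨w, hw, rfl⟩ := hu; exact hmapφ w hw)
  · intro h
    have hbx := hC.cm_E hC.hb x
    have h1 : π (cm b x ^ p) = 1 := by
      have h2 := congrArg π (conj_pow (i := p) (a := x⁻¹) (b := b))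
      rw [inv_inv, conj_eq_mul_cm, hC.mk_pow_mul hC.hb (hC.LE hbx),
        conj_eq_mul_cm, map_mul, mk_eq_one.2 h, mul_one] at h2
      exact mul_eq_left.1 h2
    exact hC.bx (hA _ (hC.LE hbx) (hψC1 (mk_eq_one.1 h1)))

end

end Cfsg.Agent.Fusion.RankThree.Pearl
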