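import Cfsg.Agent.Lib.Fusion.RankThree.Pearl.Abelian
import Cfsg.Agent.Lib.Fusion.RankThree.Pearl.Powers
import Cfsg.Agent.Lib.Fusion.RankThree.Pearl.Cubic
import Cfsg.Agent.Lib.PLocal.CyclicExtension
import Cfsg.Agent.Lib.Fusion.EssentialShape

/-!
A non-normal essential subgroup with Frattini quotient of order `p ^ 2` in a group of sectional rank three
is abelian or has order `p ^ 3`.
-/

set_option autoImplicit false
set_option linter.unusedSectionVars false
set_option linter.style.haveILetI false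

namespace Cfsg.Agent.Fusion.RankThree.Pearl

open Cfsg Cfsg.FusionSystem Cfsg.Agent.Fusion Cfsg.Agent.Fusion.Basic Cfsg.Agent.Fusion.Saturation
open Cfsg.Agent.Fusion.RankThree Cfsg.Agent.Fusion.RankThree.Normal
open Subgroup (zpowers closure mem_zpowers mem_zpowers_iff normalizer)

section Abstract

variable {G : Type*} [Group G] [Finite G] {p : ℕ} [hp : Fact p.Prime] {E L : Subgroup G} {a b x : G}
  (hC : Ctx p E L a b x)
include hC

theorem Ctx.inf_map (γ : G ≃* G) (hγ : E.map γ.toMonoidHom ≠ E) : E ⊓ E.map γ.toMonoidHom = L := by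
  haveI := hC.nE; haveI := hC.nL
  set E' := E.map γ.toMonoidHom with hE'
  haveI : E'.Normal := hC.nE.map _ γ.surjective
  have hcard : Nat.card E' = Nat.card E := Subgroup.card_map_of_injective γ.injective
  have hidx : E'.index = p := by
    refine Nat.eq_of_mul_eq_mul_left (Nat.card_pos (α := E)) ?_
    conv_lhs => rw [← hcard, Subgroup.card_mul_index]
    rw [← hC.idx, Subgroup.card_mul_index]
  have hphi : phi p E ≤ E ⊓ E' := le_inf phi_le (phi_le_of_index hC.grp hidx)
  have hDrel : (E ⊓ E').relIndex E ≤ p := by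
    rw [inf_comm, Subgroup.inf_relIndex_right, ← hidx]
    exact Subgroup.relIndex_le_of_le_right le_top Subgroup.index_ne_zero_of_finite |>.trans
      (Subgroup.relIndex_top_right E').le
  have hnle : ¬ E ≤ E ⊓ E' := fun h =>
    hγ (Subgroup.eq_of_le_of_card_ge (h.trans inf_le_right) hcard.le).symm
  have hle : E ⊓ E' ≤ L := by
    intro v hv
    by_contra hvL
    have hpn := hC.phi_n
    obtain ⟨i, hi⟩ := exists_zpow_of_relIndex hC.grp hC.idxL hv.1 hvL hC.hb
    rw [← map_zpow] at hi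
    have hl : (v ^ i)⁻¹ * b ∈ L := (QuotientGroup.eq (s := L)).1 hi.symm
    have h2 : cm b x ∈ E ⊓ E' := by
      rw [show b = v ^ i * ((v ^ i)⁻¹ * b) from (mul_inv_cancel_left _ _).symm, cm_mul_left]
      refine mul_mem ?_ (hphi (hC.cm_L hl x))
      simpa using (inferInstance : (E ⊓ E').Normal).conj_mem _ (cm_mem (zpow_mem hv i) x) ((v ^ i)⁻¹ * b)⁻¹
    obtain ⟨j, hj⟩ := exists_zpow_of_relIndex hC.grp hC.idxPhi (hC.cm_E hC.hb x) hC.bx hC.ha
    rw [← map_zpow] at hj
    have ha : a ∈ E ⊓ E' := by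
      have h3 := mul_mem (zpow_mem h2 j) (hphi ((QuotientGroup.eq (s := phi p E)).1 hj.symm))
      rwa [mul_inv_cancel_left] at h3
    have hb : b ∈ E ⊓ E' := by
      have hL : L ≤ E ⊓ E' := fun d hd => by
        obtain ⟨n, w, hw, rfl⟩ := hC.decL hd
        exact mul_mem (zpow_mem ha n) (hphi hw)
      rw [show b = v ^ i * ((v ^ i)⁻¹ * b) from (mul_inv_cancel_left _ _).symm]
      exact mul_mem (zpow_mem hv i) (hL hl)
    exact hnle fun w hw => hC.mem_of ha hb hphi hw
  refine le_antisymm hle (Subgroup.relIndex_eq_one.1 ?_)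
  have h1 := Subgroup.relIndex_mul_relIndex (E ⊓ E') L E hle hC.LE
  rw [hC.idxL] at h1
  rw [← h1] at hDrel
  have h0 : (E ⊓ E').relIndex L ≠ 0 := Subgroup.index_ne_zero_of_finite
  have h2 := Nat.le_of_mul_le_mul_right (hDrel.trans (one_mul p).ge) hp.out.pos
  omega

theorem Ctx.map_L (γ : G ≃* G) (hγ : E.map γ.toMonoidHom ≠ E) : L.map γ.toMonoidHom = L := by
  have hback : (E.map γ.symm.toMonoidHom).map γ.toMonoidHom = E := by
    ext v
    refine ⟨?_, fun hv => ⟨γ.symm v, ⟨v, hv, rfl⟩, γ.apply_symm_apply v⟩⟩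
    rintro ⟨_, ⟨w, hw, rfl⟩, rfl⟩
    show γ (γ.symm w) ∈ E
    rwa [γ.apply_symm_apply]
  have hγ' : E.map γ.symm.toMonoidHom ≠ E := fun h => hγ (by rw [h] at hback; exact hback)
  conv_lhs => rw [← hC.inf_map γ.symm hγ']
  rw [Subgroup.map_inf _ _ _ γ.injective, hback, inf_comm, hC.inf_map γ hγ]

/-- The alternatives. -/
theorem Ctx.comm_or_cube (hsr : Cfsg.SectionalPRankLE p 3 G) (γ : G ≃* G)
    (hγ : E.map γ.toMonoidHom ≠ E) : (∀ u ∈ E, ∀ v ∈ E, Commute u v) ∨ Nat.card E = p ^ 3 := by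
  by_cases hc : cm a b ∈ layer p E
  · exact Or.inl (hC.abelian hc)
  · rcases hC.powers hc with hA | hB
    · exact (hC.false_powers hsr hc hA γ hγ (hC.map_L γ hγ)).elim
    · exact Or.inr (hC.cubic hsr hc hB γ hγ (hC.map_L γ hγ))

end Abstract

variable {X : Type*} [Group X] [Finite X] {p : ℕ} [hp : Fact p.Prime] {F : FusionSystem (⊤ : Subgroup X)}
  {E : Subgroup X}

/-- An element of the normalizer stabilising an invariant series down to the Frattini subgroup is in `E`. -/
theorem mem_of_stab (hX : IsPGroup p X) (hE : F.IsEssential p E) {U : Subgroup X} (hUE : U ≤ E)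
    (hphi : phi p E ≤ U) (hinv : ∀ α ∈ F.autGroup E, ∀ v ∈ U, autFun α v ∈ U) {y : X}
    (hy : y ∈ normalizer (E : Set X)) (h1 : ∀ v ∈ E, cm v y ∈ U) (h2 : ∀ u ∈ U, cm u y ∈ phi p E) :
    y ∈ E := by
  classical
  have hS : IsPGroup p (⊤ : Subgroup X) := hX.to_subgroup ⊤
  have hEp : IsPGroup p E := hX.to_subgroup E
  set Φ := phi p E with hΦ
  have hΦE : Φ ≤ E := phi_le
  have hΦinv : ∀ α : MulAut E, ∀ v ∈ Φ, autFun α v ∈ Φ := fun α v hv =>
    Pearl.Inv.af (inv_phi E) α (hΦE hv) hv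
  haveI : (Φ.subgroupOf E).Normal := ⟨fun v hv g => by
    have := hΦinv (MulAut.conj g) v hv
    rw [autFun_apply] at this
    exact this⟩
  set π := QuotientGroup.mk' (Φ.subgroupOf E) with hπ
  have hπ1 : ∀ v : E, π v = 1 ↔ (v : X) ∈ Φ := fun v =>
    (QuotientGroup.eq_one_iff v).trans Subgroup.mem_subgroupOf
  set A := F.autGroup E with hA
  have hAU : ∀ α : A, ∀ v : E, (v : X) ∈ U → (((α : MulAut E) v : E) : X) ∈ U := fun α v hv => by
    rw [← autFun_apply]; exact hinv α α.2 v hv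
  have hcong : ∀ α : MulAut E, ∀ v : E, (v : X) ∈ Φ → ((α v : E) : X) ∈ Φ := fun α v hv => by
    rw [← autFun_apply]; exact hΦinv α v hv
  let K : Subgroup A :=
    { carrier := {α | (∀ v : E, ((v⁻¹ * (α : MulAut E) v : E) : X) ∈ U) ∧
        ∀ v : E, (v : X) ∈ U → ((v⁻¹ * (α : MulAut E) v : E) : X) ∈ Φ}
      one_mem' := ⟨fun v => by simp, fun v _ => by simp⟩
      mul_mem' := by
        intro α β ha hb
        have key : ∀ v : E, v⁻¹ * ((α * β : A) : MulAut E) v = v⁻¹ * (β : MulAut E) v *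
            (((β : MulAut E) v)⁻¹ * (α : MulAut E) ((β : MulAut E) v)) := fun v => by simp [mul_assoc]
        refine ⟨fun v => ?_, fun v hv => ?_⟩
        · rw [key, Subgroup.coe_mul]; exact mul_mem (hb.1 v) (ha.1 _)
        · rw [key, Subgroup.coe_mul]; exact mul_mem (hb.2 v hv) (ha.2 _ (hAU β v hv))
      inv_mem' := by
        intro α ha
        refine ⟨fun v => ?_, fun v hv => ?_⟩
        · have h := ha.1 (((α⁻¹ : A) : MulAut E) v)
          rw [Subgroup.coe_inv, MulAut.apply_inv_self] at h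
          rw [Subgroup.coe_inv]
          simpa using inv_mem h
        · have h := ha.2 (((α⁻¹ : A) : MulAut E) v) (hAU _ v hv)
          rw [Subgroup.coe_inv, MulAut.apply_inv_self] at h
          rw [Subgroup.coe_inv]
          simpa using inv_mem h }
  have hKn : K.Normal := by
    refine ⟨fun β hβ α => ?_⟩
    have key : ∀ v : E, v⁻¹ * ((α * β * α⁻¹ : A) : MulAut E) v =
        (α : MulAut E) ((((α⁻¹ : A) : MulAut E) v)⁻¹ * (β : MulAut E) (((α⁻¹ : A) : MulAut E) v)) := fun v => by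
      simp [map_mul, map_inv, MulAut.apply_inv_self]
    refine ⟨fun v => ?_, fun v hv => ?_⟩
    · rw [key]; exact hAU α _ (hβ.1 _)
    · rw [key]; exact hcong _ _ (hβ.2 _ (hAU _ v hv))
  have hKp : IsPGroup p K := by
    intro α
    obtain ⟨n, hn⟩ := IsPGroup.iff_card.1 hEp
    obtain ⟨r, hr⟩ : ∃ r, (frattini E).index = p ^ r := hEp.index _
    set α0 : MulAut E := ((α : A) : MulAut E) with hα0
    have hpow : ∀ (m : ℕ) (v : E), π ((α0 ^ m) v) = π v * π (v⁻¹ * α0 v) ^ m := by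
      intro m v
      induction m with
      | zero => simp
      | succ m ih =>
        have h1 : π (α0 ((α0 ^ m) v)) = π (α0 (v * (v⁻¹ * α0 v) ^ m)) := by
          rw [← map_pow, ← map_mul] at ih
          have h2 := (hπ1 _).2 (hcong α0 _ ((hπ1 _).1 (show π (((α0 ^ m) v)⁻¹ * (v * (v⁻¹ * α0 v) ^ m)) = 1 by
            rw [map_mul π ((α0 ^ m) v)⁻¹, map_inv, ih, inv_mul_cancel])))
          rw [map_mul α0, map_inv α0, map_mul π, map_inv π, inv_mul_eq_one] at h2
          exact h2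
        have h3 : π (α0 (v⁻¹ * α0 v)) = π (v⁻¹ * α0 v) := by
          have h4 := (hπ1 _).2 (α.2.2 _ (α.2.1 v))
          rw [map_mul π, map_inv π, inv_mul_eq_one] at h4
          exact h4.symm
        rw [pow_succ', MulAut.mul_apply, h1, map_mul α0, map_pow α0, map_mul π, map_pow π, h3,
          show π (α0 v) = π v * π (v⁻¹ * α0 v) by rw [← map_mul, mul_inv_cancel_left], pow_succ', mul_assoc]
    let B : Subgroup (MulAut E) :=
      { carrier := {β | ∀ v : E, π (β v) = π v}
        one_mem' := fun v => rfl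
        mul_mem' := fun {β β'} h h' v => by rw [MulAut.mul_apply, h, h']
        inv_mem' := fun {β} h v => by
          have := h (β⁻¹ v); rwa [MulAut.apply_inv_self, eq_comm] at this }
    have hfr : ∀ v : E, v ∈ frattini E ↔ (v : X) ∈ Φ := fun v => by
      rw [← Subgroup.mem_map_iff_mem E.subtype_injective (K := frattini E), map_frattini hEp]; rfl
    have hB : IsPGroup p B := by
      have hdvd := GroupStructure3.FrattiniAut.card_stab_dvd (r := r) hn hr B fun β hβ v => by
        refine (hfr _).2 ((hπ1 _).1 ?_)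
        rw [map_mul, map_inv, hβ v, mul_inv_cancel]
      obtain ⟨i, -, hi⟩ := (Nat.dvd_prime_pow hp.out).1 hdvd
      exact IsPGroup.of_card hi
    have hmem : α0 ^ p ∈ B := fun v => by
      have h5 : π ((v⁻¹ * α0 v) ^ p) = 1 :=
        (hπ1 _).2 (by rw [SubgroupClass.coe_pow]; exact pow_mem_phi (v⁻¹ * α0 v).2)
      rw [hpow, ← map_pow, h5, mul_one]
    obtain ⟨k, hk⟩ := hB ⟨_, hmem⟩
    refine ⟨k + 1, Subtype.ext (Subtype.ext ?_)⟩
    rw [pow_succ', pow_mul]
    simpa using congrArg Subtype.val hk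
  set γ : MulAut E := E.normalizerMonoidHom ⟨y⁻¹, inv_mem hy⟩ with hγ
  have hγv : ∀ v : E, ((γ v : E) : X) = y⁻¹ * v * y⁻¹⁻¹ := fun v => rfl
  have hγA : γ ∈ A := autInducedBy_le le_top (mem_autInducedBy_iff.2 ⟨y⁻¹, Subgroup.mem_top _, fun _ => rfl⟩)
  have hγK : (⟨γ, hγA⟩ : A) ∈ K := by
    have key : ∀ v : E, ((v⁻¹ * γ v : E) : X) = cm (v : X) y := fun v => by
      rw [Subgroup.coe_mul, Subgroup.coe_inv, hγv, inv_inv, cm_def]; group
    exact ⟨fun v => by rw [key]; exact h1 v v.2, fun v hv => by rw [key]; exact h2 v hv⟩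
  have hinn := EssentialShape.mem_inn_of_mem_pCore hE hS
    (le_sSup (show K ∈ {N : Subgroup A | N.Normal ∧ IsPGroup p N} from ⟨hKn, hKp⟩) hγK)
  obtain ⟨n, hn, hne⟩ := mem_inn_iff.1 hinn
  have h3 : n⁻¹ * y⁻¹ ∈ E := by
    refine (hE.1.2 E (isConj_refl hE.1.1)) ⟨Subgroup.mem_top _, fun v hv => ?_⟩
    have h4 := hne v hv
    rw [autFun_of_mem γ hv, hγv, cj_apply, inv_inv] at h4
    show v * (n⁻¹ * y⁻¹) = n⁻¹ * y⁻¹ * v
    calc v * (n⁻¹ * y⁻¹) = n⁻¹ * (n * v * n⁻¹) * y⁻¹ := by group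
      _ = n⁻¹ * (y⁻¹ * v * y) * y⁻¹ := by rw [h4]
      _ = n⁻¹ * y⁻¹ * v := by group
  have h5 := E.mul_mem hn h3
  rw [mul_inv_cancel_left, inv_mem_iff] at h5
  exact h5

set_option maxHeartbeats 800000 in
/-- A non-normal essential subgroup needing two generators is abelian or of order `p ^ 3`. -/
theorem comm_or_cube (hX : IsPGroup p X) (hp2 : p ≠ 2) (hsr : Cfsg.SectionalPRankLE p 3 X)
    (hF : F.IsSaturated p) (hE : F.IsEssential p E) (hrk : (phi p E).relIndex E = p ^ 2)
    (hnn : normalizer (E : Set X) ≠ ⊤) : (∀ u ∈ E, ∀ v ∈ E, Commute u v) ∨ Nat.card E = p ^ 3 := by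
  have hS : IsPGroup p (⊤ : Subgroup X) := hX.to_subgroup ⊤
  have hlt : E < (⊤ : Subgroup X) := Alperin.essential_lt hS hF hE
  set P := normalizer (E : Set X) with hPdef
  have hEP : E ≤ P := Subgroup.le_normalizer
  obtain ⟨g, hgN, hgP⟩ := exists_mem_normalizer_not_mem hS (lt_top_iff_ne_top.2 hnn)
  have hg : g ∈ normalizer (P : Set X) := hgN.2
  obtain ⟨z, hzN, hzE⟩ := exists_mem_normalizer_not_mem hS hlt
  have hzP : z ∈ P := hzN.2
  set E' := E.subgroupOf P with hE'
  haveI hEn : E'.Normal := (Subgroup.normal_subgroupOf_iff_le_normalizer hEP).2 le_rfl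
  have hGp := hX.to_subgroup P
  have hmapE : E'.map P.subtype = E := Subgroup.map_subgroupOf_eq_of_le hEP
  have hphi : (phi p E').map P.subtype = phi p E := by rw [phi_map, hmapE]
  haveI : (phi p E').Normal := phi_normal
  have hrk' : (phi p E').relIndex E' = p ^ 2 := by
    rw [← Subgroup.relIndex_map_map_of_injective _ _ P.subtype_injective, hphi, hmapE, hrk]
  have hmem : ∀ v : P, v ∈ E' ↔ (v : X) ∈ E := fun v => Subgroup.mem_subgroupOf
  -- stabilisers are inner
  have hstab : ∀ U : Subgroup P, Inv E' U → phi p E' ≤ U → U ≤ E' → ∀ y : P,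
      (∀ v ∈ E', cm v y ∈ U) → (∀ u ∈ U, cm u y ∈ phi p E') → y ∈ E' := by
    intro U hU hle hUE y h1 h2
    refine (hmem y).2 (mem_of_stab hX hE (U := U.map P.subtype) (hmapE ▸ Subgroup.map_mono hUE)
      (hphi ▸ Subgroup.map_mono hle) (fun α _ v hv => ?_) y.2 (fun v hv => ?_) fun u hu => ?_)
    · obtain ⟨u, hu, rfl⟩ := hv
      let e : E' ≃* E := Subgroup.subgroupOfEquivOfLe hEP
      have h3 := hU (MulAut.congr e.symm α) ⟨u, hUE hu⟩ hu
      refine ⟨_, h3, ?_⟩
      show (((MulAut.congr e.symm α ⟨u, hUE hu⟩ : E') : P) : X) = autFun α (u : X)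
      rw [autFun_of_mem α ((hmem u).1 (hUE hu))]
      rfl
    · exact ⟨cm ⟨v, hEP hv⟩ y, h1 _ ((hmem _).2 hv), map_cm P.subtype _ _⟩
    · obtain ⟨u', hu', rfl⟩ := hu
      rw [← hphi]
      exact ⟨cm u' y, h2 u' hu', map_cm P.subtype _ _⟩
  have hx : (⟨z, hzP⟩ : P) ∉ E' := fun h => hzE ((hmem _).1 h)
  set x : P := ⟨z, hzP⟩
  -- the fixed line
  have hlt' : phi p E' < E' := lt_of_le_of_ne phi_le fun h => by
    rw [h, Subgroup.relIndex_self] at hrk'
    exact absurd hrk' (Nat.one_lt_pow two_ne_zero hp.out.one_lt).ne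
  obtain ⟨L, hLn, hphiL, hLE, hidxPhi⟩ := PLocal.CyclicExtension.exists_normal_relIndex_eq hGp hlt'
  have hidxL : L.relIndex E' = p := by
    have h := Subgroup.relIndex_mul_relIndex (phi p E') L E' hphiL hLE
    rw [hidxPhi, hrk', pow_two] at h
    exact Nat.eq_of_mul_eq_mul_left hp.out.pos h
  obtain ⟨a, ha, ha'⟩ : ∃ a ∈ L, a ∉ phi p E' := SetLike.exists_of_lt (lt_of_le_of_ne hphiL fun h => by
    rw [h, Subgroup.relIndex_self] at hidxPhi; exact hp.out.one_lt.ne hidxPhi)
  obtain ⟨b, hb, hb'⟩ : ∃ b ∈ E', b ∉ L := SetLike.exists_of_lt (lt_of_le_of_ne hLE fun h => by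
    rw [h, Subgroup.relIndex_self] at hidxL; exact hp.out.one_lt.ne hidxL)
  have hcmL : ∀ d ∈ L, ∀ y, cm d y ∈ phi p E' := fun d hd y => cm_mem_of_relIndex hGp hidxPhi hd y
  have hcmE : ∀ v ∈ E', ∀ y, cm v y ∈ L := fun v hv y => cm_mem_of_relIndex hGp hidxL hv y
  have hcent : ∀ y, cm b y ∈ phi p E' → y ∈ E' := by
    intro y hy
    refine hstab _ (inv_phi E') le_rfl phi_le y (fun v hv => ?_) fun u hu => hcmL u (hphiL hu) y
    obtain ⟨i, hi⟩ := exists_zpow_of_relIndex hGp hidxL hb hb' hv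
    rw [← map_zpow] at hi
    have hl := (QuotientGroup.eq (s := L)).1 hi.symm
    rw [show v = b ^ i * ((b ^ i)⁻¹ * v) from (mul_inv_cancel_left _ _).symm, cm_mul_left]
    refine mul_mem ?_ (hcmL _ hl y)
    have hcomm : Commute (QuotientGroup.mk' (phi p E') b) (QuotientGroup.mk' (phi p E') y) :=
      mk_cm_eq_one_iff.2 hy
    have h4 : cm (b ^ i) y ∈ phi p E' := mk_cm_eq_one_iff.1 (by rw [map_zpow]; exact hcomm.zpow_left i)
    simpa using (inferInstance : (phi p E').Normal).conj_mem _ h4 ((b ^ i)⁻¹ * v)⁻¹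
  have hidx : E'.index = p := by
    let f : P →* P ⧸ phi p E' := MonoidHom.mk' (fun y => QuotientGroup.mk' (phi p E') (cm b y)) fun y y' =>
      mk_cm_right (hcmL _ (hcmE b hb y) y') (hcmL _ (hcmE b hb y) _)
    have hker : f.ker = E' := by
      refine le_antisymm (fun y hy => hcent y (mk_eq_one.1 hy)) fun y hy => mk_eq_one.2 (cm_mem_phi hb hy)
    have hne : E'.index ≠ 1 := fun h => hx (by rw [Subgroup.index_eq_one.1 h]; exact Subgroup.mem_top _)
    have hle : f.range ≤ L.map (QuotientGroup.mk' (phi p E')) := by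
      rintro _ ⟨y, rfl⟩
      exact Subgroup.mem_map_of_mem _ (hcmE b hb y)
    have h1 : E'.index ∣ p := by
      rw [← hker, Subgroup.index_ker]
      refine (Subgroup.card_dvd_of_le hle).trans (dvd_of_eq ?_)
      rw [← relIndex_eq_card_map, hidxPhi]
    exact ((Nat.dvd_prime hp.out).1 h1).resolve_left hne
  have hC : Ctx p E' L a b x :=
    { grp := hGp
      odd := hp2
      nE := hEn
      nL := hLn
      phiL := hphiL
      LE := hLE
      idxL := hidxL
      idxPhi := hidxPhi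
      ha := ha
      ha' := ha'
      hb := hb
      hb' := hb'
      hx := hx
      bx := fun h => hx (hcent x h)
      idx := hidx
      irr := fun U hU hle hUE => by
        by_contra hcon
        rw [not_or] at hcon
        haveI : U.Normal := ⟨fun v hv y => by
          have h1 := hU (MulAut.conjNormal y) ⟨v, hUE hv⟩ hv
          exact h1⟩
        have h1 := Subgroup.relIndex_mul_relIndex (phi p E') U E' hle hUE
        rw [hrk'] at h1
        obtain ⟨i, hi⟩ := exists_relIndex_eq_pow hGp (phi p E') U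
        obtain ⟨j, hj⟩ := exists_relIndex_eq_pow hGp U E'
        have hi0 : i ≠ 0 := fun h0 => hcon.1 (le_antisymm (Subgroup.relIndex_eq_one.1 (by rw [hi, h0, pow_zero])) hle)
        have hj0 : j ≠ 0 := fun h0 => hcon.2 (le_antisymm hUE (Subgroup.relIndex_eq_one.1 (by rw [hj, h0, pow_zero])))
        rw [hi, hj, ← pow_add] at h1
        have h2 := Nat.pow_right_injective hp.out.two_le h1
        have hi1 : i = 1 := by omega
        have hj1 : j = 1 := by omega
        rw [hi1, pow_one] at hi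
        rw [hj1, pow_one] at hj
        exact hx (hstab U hU hle hUE x (fun v hv => cm_mem_of_relIndex hGp hj hv x)
          fun u hu => cm_mem_of_relIndex hGp hi hu x) }
  let γ : P ≃* P := P.normalizerMonoidHom ⟨g, hg⟩
  have hγ : E'.map γ.toMonoidHom ≠ E' := fun h => hgP (mem_normalizer_of_forall fun v hv => by
    have h1 : γ ⟨v, hEP hv⟩ ∈ E'.map γ.toMonoidHom := Subgroup.mem_map_of_mem _ ((hmem _).2 hv)
    rw [h] at h1
    exact (hmem _).1 h1)
  have hcard : Nat.card E' = Nat.card E := Nat.card_congr (Subgroup.subgroupOfEquivOfLe hEP).toEquiv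
  rcases hC.comm_or_cube (sectional_subgroup hsr P) γ hγ with h | h
  · exact Or.inl fun u hu v hv => congrArg Subtype.val
      (h ⟨u, hEP hu⟩ ((hmem _).2 hu) ⟨v, hEP hv⟩ ((hmem _).2 hv)).eq
  · exact Or.inr (hcard ▸ h)

end Cfsg.Agent.Fusion.RankThree.Pearl
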