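import Cfsg.Agent.Lib.Fusion.RankThree.Pearl.Main
import Cfsg.Agent.Lib.Fusion.RankThree.Normal.PairShape
import Cfsg.Agent.Lib.Fusion.RankThree.Main
import Cfsg.Agent.LocalFlavell.MaxClass.Push

/-!
A non-normal essential subgroup in sectional rank three, `p ≥ 5`, over `S ≤ Ω`: it is abelian with two
generators or has order `p ^ 3`.
-/

set_option autoImplicit false
set_option linter.unusedSectionVars false
set_option linter.style.haveILetI false

namespace Cfsg.Agent.Fusion.RankThree.Pearl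

open Cfsg Cfsg.FusionSystem Cfsg.Agent.Fusion Cfsg.Agent.Fusion.Basic Cfsg.Agent.Fusion.Saturation
open Cfsg.Agent.Fusion.RankThree
open Subgroup (zpowers normalizer mem_zpowers mem_zpowers_iff)

/-- At most one generator modulo the Frattini subgroup: cyclic. -/
theorem comm_of_relIndex_le {X : Type*} [Group X] [Finite X] {p : ℕ} [Fact p.Prime] (hX : IsPGroup p X)
    {E : Subgroup X} (h : (phi p E).relIndex E ≤ p) : ∀ u ∈ E, ∀ v ∈ E, Commute u v := by
  by_cases hle : E ≤ phi p E
  · intro u hu v hv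
    have hbot : E = ⊥ := (Normal.eq_of_le_sup_phi hX (bot_le : ⊥ ≤ E) (hle.trans le_sup_right)).symm
    rw [hbot, Subgroup.mem_bot] at hu
    rw [hu]; exact Commute.one_left v
  obtain ⟨a, ha, ha'⟩ := SetLike.not_le_iff_exists.1 hle
  haveI : ((phi p E).subgroupOf E).Normal := by
    refine ⟨fun v hv g => ?_⟩
    exact inv_phi E (MulAut.conj g) v hv
  have hgen : zpowers a = E := by
    refine Normal.eq_of_le_sup_phi hX (Subgroup.zpowers_le.2 ha) fun v hv => ?_
    set N := (phi p E).subgroupOf E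
    have hpr : Nat.card (E ⧸ N) ≤ p := h
    have hne : (QuotientGroup.mk' N ⟨a, ha⟩) ≠ 1 := fun h1 =>
      ha' ((QuotientGroup.eq_one_iff _).1 h1 : (⟨a, ha⟩ : E) ∈ N)
    have hord : orderOf (QuotientGroup.mk' N ⟨a, ha⟩) = p :=
      orderOf_eq_prime (by rw [← map_pow]; exact (QuotientGroup.eq_one_iff _).2 (pow_mem_phi ha)) hne
    have htop : zpowers (QuotientGroup.mk' N ⟨a, ha⟩) = ⊤ :=
      Subgroup.eq_top_of_le_card _ (by rw [Nat.card_zpowers, hord]; exact hpr)
    obtain ⟨i, hi⟩ := mem_zpowers_iff.1 (htop.ge (Subgroup.mem_top (QuotientGroup.mk' N ⟨v, hv⟩)))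
    rw [← map_zpow] at hi
    have h1 := Subgroup.mem_subgroupOf.1 ((QuotientGroup.eq (s := N)).1 hi)
    rw [show v = a ^ i * ((a ^ i)⁻¹ * v) from (mul_inv_cancel_left _ _).symm]
    exact Subgroup.mul_mem_sup (zpow_mem (mem_zpowers a) i) h1
  intro u hu v hv
  rw [← hgen] at hu hv
  obtain ⟨i, rfl⟩ := mem_zpowers_iff.1 hu
  obtain ⟨j, rfl⟩ := mem_zpowers_iff.1 hv
  exact ((Commute.refl a).zpow_left i).zpow_right j

variable {Ω : Type*} [Group Ω] {S : Subgroup Ω} [Finite S] {p : ℕ} [Fact p.Prime] {F : FusionSystem S}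

theorem pearl_shape (hp : 5 ≤ p) (hS : IsPGroup p S) (hsr : SectionalPRankLE p 3 ↥S)
    (hF : F.IsSaturated p) {E : Subgroup Ω} (hE : F.IsEssential p E)
    (hnn : ¬ S ≤ normalizer (E : Set Ω)) :
    (IsMulCommutative ↥E ∧ (frattini ↥E).index ≤ p ^ 2) ∨ Nat.card E = p ^ 3 := by
  obtain ⟨-, hsat, hess⟩ := LocalFlavell.MaxClass.Push.essential hS hF hE
  have hES : E ≤ S := hE.1.1
  haveI : Finite E := Saturation.finite_of_le hES
  set E' := E.subgroupOf S with hE'
  have hnn' : normalizer (E' : Set S) ≠ ⊤ := fun h => hnn fun s hs => by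
    refine mem_normalizer_of_forall fun v hv => ?_
    have h1 : (⟨s, hs⟩ : S) ∈ normalizer (E' : Set S) := h ▸ Subgroup.mem_top _
    exact Subgroup.mem_subgroupOf.1
      ((Subgroup.mem_normalizer_iff.1 h1 ⟨v, hES hv⟩).1 (Subgroup.mem_subgroupOf.2 hv))
  have hmap : (frattini E).map E.subtype = phi p E := by
    rw [frattini_eq_phi (hS.to_le hES), phi_map, ← MonoidHom.range_eq_map, Subgroup.range_subtype]
  have hidx : (phi p E').relIndex E' = (frattini E).index := by
    rw [← Subgroup.relIndex_map_map_of_injective _ _ S.subtype_injective, phi_map,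
      Subgroup.map_subgroupOf_eq_of_le hES, ← hmap, Subgroup.relIndex, Subgroup.subgroupOf,
      Subgroup.comap_map_eq_self_of_injective E.subtype_injective]
  have hp2 : p ≠ 2 := by omega
  have hle3 : (phi p E').relIndex E' ≤ p ^ 3 := by
    have h1 := Normal.sect_card_le hsr (N := phi p E') (H := E') phi_le (fun u hu v hv => cm_mem_phi hu hv)
      (fun u hu => pow_mem_phi hu)
    have h2 := Subgroup.relIndex_mul_relIndex (⊥ : Subgroup S) (phi p E') E' bot_le phi_le
    rw [Subgroup.relIndex_bot_left, Subgroup.relIndex_bot_left] at h2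
    exact Nat.le_of_mul_le_mul_left (by rw [h2, mul_comm _ (p ^ 3)]; exact h1) (Nat.card_pos (α := phi p E'))
  have hne3 : (phi p E').relIndex E' ≠ p ^ 3 := fun h =>
    hnn' (RankThree.normalizer_eq_top hS hp hsr hsat hess h)
  obtain ⟨k, hk⟩ := exists_relIndex_eq_pow hS (phi p E') E'
  rw [hk] at hle3 hne3
  have hk3 : k ≤ 3 := (Nat.pow_le_pow_iff_right (Fact.out : p.Prime).one_lt).1 hle3
  have hk2 : k ≤ 2 := by
    by_contra hcon
    exact hne3 (by rw [show k = 3 by omega])
  have hidx2 : (frattini E).index ≤ p ^ 2 := by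
    rw [← hidx, hk]; exact Nat.pow_le_pow_right (Fact.out : p.Prime).pos hk2
  have hcomm : (∀ u ∈ E', ∀ v ∈ E', Commute u v) → IsMulCommutative ↥E := fun h => ⟨⟨fun u v => by
    have h1 := congrArg Subtype.val (h ⟨u, hES u.2⟩ (Subgroup.mem_subgroupOf.2 u.2) ⟨v, hES v.2⟩
      (Subgroup.mem_subgroupOf.2 v.2)).eq
    exact Subtype.ext h1⟩⟩
  rcases Nat.lt_or_ge k 2 with hlt | hge
  · refine Or.inl ⟨hcomm (comm_of_relIndex_le hS ?_), hidx2⟩
    rw [hk]
    exact (Nat.pow_le_pow_right (Fact.out : p.Prime).pos (show k ≤ 1 by omega)).trans (pow_one p).le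
  · rcases comm_or_cube hS hp2 hsr hsat hess (by rw [hk, show k = 2 by omega]) hnn' with h | h
    · exact Or.inl ⟨hcomm h, hidx2⟩
    · refine Or.inr ?_
      rw [← h]
      exact (Nat.card_congr (Subgroup.subgroupOfEquivOfLe hES).toEquiv).symm

end Cfsg.Agent.Fusion.RankThree.Pearl
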